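import Groth.Agent.AlgSp.K597.EffDesc
import Groth.Prelude.Def_AlgSp3

/-!
# Affine morphisms of fppf sheaves

* `repWith_isAffineHom_iff`: `IsAffineMor f ↔ RepWith @IsAffineHom f` (S9941).
* `exists_affine_nhd`, `exists_local_lift`: refinements by affine schemes.
* `isAffineMor_of_cover` (S9943), `isAffineMor_of_affine_charts` (S9942).
-/

set_option autoImplicit false
set_option backward.isDefEq.respectTransparency false
set_option backward.isDefEq.respectTransparency.types false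
universe u
open CategoryTheory CategoryTheory.Limits AlgebraicGeometry Opposite AlgSp

namespace K597.Affine

open K594.Elem K594.Cover K597.FibF K597.EffDesc

variable {S : Scheme.{u}} {F G : Sp S} {f : F ⟶ G}

theorem secEquiv_precomp {U V : Over S} (v : V ⟶ U) (b : (yon S).obj U ⟶ G) :
    secEquiv ((yon S).map v ≫ b) = G.obj.map v.op (secEquiv b) := by
  rw [← yonEquiv_apply b v]
  change b.hom.app _ ⟨𝟙 V ≫ v⟩ = _
  rw [Category.id_comp]

/-- Affine open neighbourhoods as objects over `S`. -/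
theorem exists_affine_nhd (U : Over S) (O : U.left.Opens) (t : U.left) (ht : t ∈ O) :
    ∃ (V : Over S) (v : V ⟶ U), IsAffine V.left ∧ IsOpenImmersion v.left ∧ t ∈ Set.range v.left ∧
      Set.range v.left ⊆ O := by
  obtain ⟨V₀, hV₀, htV₀, hV₀O⟩ := exists_isAffineOpen_mem_and_subset (x := t) (U := O) ht
  refine ⟨Over.mk (V₀.ι ≫ U.hom), Over.homMk V₀.ι rfl, hV₀, ?_, ?_, ?_⟩
  · change IsOpenImmersion V₀.ι
    infer_instance
  · exact ⟨⟨t, htV₀⟩, rfl⟩
  · rintro _ ⟨x, rfl⟩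
    exact hV₀O x.2

/-- A section of the target of an etale surjective `p : G₀ ⟶ G` lifts etale locally, over an affine scheme. -/
theorem exists_local_lift {G₀ : Sp S} {p : G₀ ⟶ G} (hp : RepWith @Etale p) (hps : RepWith @Surjective p)
    (U : Over S) (y : G.obj.obj (op U)) (t : U.left) :
    ∃ (V : Over S) (v : V ⟶ U) (y₀ : G₀.obj.obj (op V)), IsAffine V.left ∧ Etale v.left ∧
      t ∈ Set.range v.left ∧ p.hom.app (op V) y₀ = G.obj.map v.op y := by
  obtain ⟨T, c, ζ, hT, hc⟩ := RepWith.exists_isRep hp y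
  have hcs : Surjective c.left := RepWith.prop_of_isRep hps hT
  obtain ⟨t', ht'⟩ := hcs.surj t
  obtain ⟨V, v, hV, hv, ⟨s, hs⟩, -⟩ := exists_affine_nhd T ⊤ t' trivial
  refine ⟨V, v ≫ c, G₀.obj.map v.op ζ, hV, ?_, ⟨s, ?_⟩, ?_⟩
  · rw [Over.comp_left]
    infer_instance
  · rw [Over.comp_left, Scheme.Hom.comp_apply, hs, ht']
  · rw [app_map, hT.w, ← map_comp_apply]

/-- Representations over the base change `f' : F' ⟶ G'` are representations of `f`. -/
theorem isRep_of_bc {F' G' : Sp S} {g : G' ⟶ G} {g' : F' ⟶ F} {f' : F' ⟶ G'}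
    (sq : IsPullback g' f' f g) {V : Over S} {y : G'.obj.obj (op V)} {W : Over S} {w : W ⟶ V}
    {ξ : F'.obj.obj (op W)} (h : IsRep f' y w ξ) :
    IsRep f (g.hom.app (op V) y) w (g'.hom.app (op W) ξ) := by
  rw [isPullback_iff] at sq
  obtain ⟨sw, s1, s2⟩ := sq
  refine ⟨?_, fun {T} a b hab hx => ?_, fun {T} t x hx => ?_⟩
  · have h1 := congrArg (fun k : F' ⟶ G => k.hom.app (op W) ξ) sw
    change f.hom.app _ (g'.hom.app _ ξ) = g.hom.app _ (f'.hom.app _ ξ) at h1
    rw [h1, h.w, app_map]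
  · refine h.inj a b hab (s1 T _ _ ?_ ?_)
    · rw [app_map, app_map, hx]
    · rw [app_map, app_map, h.w, ← map_comp_apply, ← map_comp_apply, hab]
  · obtain ⟨z, hz1, hz2⟩ := s2 T x (G'.obj.map t.op y) (by rw [hx, app_map])
    obtain ⟨k, hk1, hk2⟩ := h.lift t z hz2
    exact ⟨k, hk1, by rw [← app_map, hk2, hz1]⟩

/-- The data of `IsAffineMor` in terms of sections. -/
theorem exists_isRep_of_isAffineMor (hf : IsAffineMor f) {Z : Over S} (hZ : IsAffine Z.left)
    (y : G.obj.obj (op Z)) :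
    ∃ (W : Over S) (w : W ⟶ Z) (ξ : F.obj.obj (op W)), IsRep f y w ξ ∧ IsAffine W.left := by
  obtain ⟨W, i, fst, sq, hW⟩ := hf hZ (secEquiv.symm y)
  have := isRep_of_isPullback sq
  rw [Equiv.apply_symm_apply] at this
  exact ⟨W, i, _, this, hW⟩

theorem isAffineHom_of_isAffine {X Y : Scheme.{u}} (f : X ⟶ Y) (hX : IsAffine X) (hY : IsAffine Y) :
    IsAffineHom f := inferInstance

/-- An affine morphism is representable and affine in the representable sense (S9941). -/
theorem repWith_of_isAffineMor (hf : IsAffineMor f) : RepWith @IsAffineHom f := by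
  have := descendsAlong_isAffineHom.{u}
  refine repWith_of_etale_local _ fun U y t => ?_
  obtain ⟨V, v, hV, hv, ht, -⟩ := exists_affine_nhd U ⊤ t trivial
  obtain ⟨W, w, ξ, h, hW⟩ := exists_isRep_of_isAffineMor hf hV (G.obj.map v.op y)
  exact ⟨V, v, W, w, ξ, inferInstance, ht, h, isAffineHom_of_isAffine _ hW hV,
    fun O hO => isQuasiAffine_open O hO⟩

theorem isAffineMor_of_repWith (hf : RepWith @IsAffineHom f) : IsAffineMor f := by
  intro Z hZ g
  obtain ⟨W, i, fst, sq⟩ := hf.1 g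
  have h1 : IsAffineHom i.left := hf.2 g fst i sq
  exact ⟨W, i, fst, sq, isAffine_of_isAffineHom i.left⟩

theorem isAffineMor_iff : IsAffineMor f ↔ RepWith @IsAffineHom f :=
  ⟨repWith_of_isAffineMor, isAffineMor_of_repWith⟩

/-- Affineness descends along a representable etale surjective morphism (S9943). -/
theorem isAffineMor_of_cover {F' G' : Sp S} {g : G' ⟶ G} {g' : F' ⟶ F} {f' : F' ⟶ G'}
    (sq : IsPullback g' f' f g) (hg : RepWith @Etale g) (hgs : RepWith @Surjective g)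
    (h : IsAffineMor f') : IsAffineMor f := by
  have := descendsAlong_isAffineHom.{u}
  refine isAffineMor_of_repWith (repWith_of_etale_local _ fun U y t => ?_)
  obtain ⟨V, v, y₀, hV, hv, ht, hy⟩ := exists_local_lift hg hgs U y t
  obtain ⟨W, w, ξ, h', hW⟩ := exists_isRep_of_isAffineMor h hV y₀
  have h2 := isRep_of_bc sq h'
  rw [hy] at h2
  exact ⟨V, v, W, w, _, hv, ht, h2, isAffineHom_of_isAffine _ hW hV,
    fun O hO => isQuasiAffine_open O hO⟩

/-- Refinement of a chart `b : h_V₀ ⟶ G` at a point of `U`: etale locally the section factors through an affine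
open subscheme of `V₀`. -/
theorem exists_local_lift_affine {V₀ : Over S} {b : (yon S).obj V₀ ⟶ G} (hb : RepWith @Etale b)
    (hbs : RepWith @Surjective b) (U : Over S) (y : G.obj.obj (op U)) (t : U.left) :
    ∃ (V V₁ : Over S) (v : V ⟶ U) (v₁ : V₁ ⟶ V₀) (k : V ⟶ V₁), IsAffine V.left ∧ IsAffine V₁.left ∧
      Etale v.left ∧ IsOpenImmersion v₁.left ∧
      t ∈ Set.range v.left ∧ G.obj.map (k ≫ v₁).op (secEquiv b) = G.obj.map v.op y := by
  obtain ⟨T, c, ζ, hT, hc⟩ := RepWith.exists_isRep hb y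
  have hcs : Surjective c.left := RepWith.prop_of_isRep hbs hT
  obtain ⟨t', ht'⟩ := hcs.surj t
  obtain ⟨z⟩ := ζ
  obtain ⟨V₁, v₁, hV₁, hv₁, ⟨s₁, hs₁⟩, -⟩ := exists_affine_nhd V₀ ⊤ (z.left t') trivial
  obtain ⟨V, v, hV, hv, ⟨s, hs⟩, hr⟩ := exists_affine_nhd T (z.left ⁻¹ᵁ v₁.left.opensRange) t' (by
    exact ⟨s₁, hs₁⟩)
  have hr' : Set.range (v.left ≫ z.left) ⊆ Set.range v₁.left := by
    rintro _ ⟨x, rfl⟩
    rw [Scheme.Hom.comp_apply]
    exact hr ⟨x, rfl⟩
  let k₀ : V.left ⟶ V₁.left := IsOpenImmersion.lift v₁.left (v.left ≫ z.left) hr'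
  have hk₀ : k₀ ≫ v₁.left = v.left ≫ z.left := IsOpenImmersion.lift_fac _ _ _
  let k : V ⟶ V₁ := Over.homMk k₀ (by
    rw [← Over.w v₁, ← Category.assoc, hk₀, Category.assoc, Over.w z, Over.w v])
  have hk : k ≫ v₁ = v ≫ z := by ext1; exact hk₀
  refine ⟨V, V₁, v ≫ c, v₁, k, hV, hV₁, ?_, hv₁, ⟨s, ?_⟩, ?_⟩
  · rw [Over.comp_left]; infer_instance
  · rw [Over.comp_left, Scheme.Hom.comp_apply, hs, ht']
  · rw [hk, map_comp_apply, map_comp_apply]
    congr 1
    have := hT.w
    rw [← this]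
    exact (yonEquiv_apply b z).symm

/-- S9942 -/
theorem isAffineMor_of_affine_charts (hG : ∃ (U : Over S) (p : (yon S).obj U ⟶ G), RepWith @Etale p ∧
      RepWith @Surjective p)
    (h : ∀ (V : Over S), IsAffine V.left → ∀ (b : (yon S).obj V ⟶ G), RepWith @Etale b →
      ∀ (P : Sp S) (fst : P ⟶ F) (snd : P ⟶ (yon S).obj V), IsPullback fst snd f b →
      ∃ (W : Over S), IsAffine W.left ∧ Nonempty ((yon S).obj W ≅ P)) :
    IsAffineMor f := by
  have := descendsAlong_isAffineHom.{u}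
  obtain ⟨V₀, b, hb, hbs⟩ := hG
  refine isAffineMor_of_repWith (repWith_of_etale_local _ fun U y t => ?_)
  obtain ⟨V, V₁, v, v₁, k, hV, hV₁, hv, hv₁, ht, hy⟩ := exists_local_lift_affine hb hbs U y t
  have hb₁ : RepWith @Etale ((yon S).map v₁ ≫ b) :=
    etale_comp (etale_map v₁ inferInstance) hb
  obtain ⟨W₁, hW₁, ⟨e⟩⟩ := h V₁ hV₁ ((yon S).map v₁ ≫ b) hb₁ _ _ _ (IsPullback.of_hasPullback f _)
  obtain ⟨w₁, hw₁⟩ := (yon S).map_surjective (e.hom ≫ pullback.snd f ((yon S).map v₁ ≫ b))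
  have sq : IsPullback (e.hom ≫ pullback.fst f ((yon S).map v₁ ≫ b)) ((yon S).map w₁) f
      ((yon S).map v₁ ≫ b) := by
    rw [hw₁]
    exact (IsPullback.of_hasPullback f ((yon S).map v₁ ≫ b)).of_iso e.symm (Iso.refl _) (Iso.refl _)
      (Iso.refl _) (by simp) (by simp) (by simp) (by simp)
  have h1 := isRep_of_isPullback sq
  have h2 := h1.baseChange (IsPullback.of_hasPullback w₁ k)
  have h3 : G.obj.map k.op (secEquiv ((yon S).map v₁ ≫ b)) = G.obj.map v.op y := by
    rw [← hy, map_comp_apply]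
    congr 1
    rw [secEquiv_precomp]
  rw [h3] at h2
  have sqk := (IsPullback.of_hasPullback w₁ k).map (Over.forget S)
  have hw₁' : IsAffineHom w₁.left := isAffineHom_of_isAffine _ hW₁ hV₁
  have hw₂ : IsAffineHom (pullback.snd w₁ k).left :=
    MorphismProperty.of_isPullback (P := @IsAffineHom) sqk hw₁'
  have hWa : IsAffine (pullback w₁ k).left := isAffine_of_isAffineHom (pullback.snd w₁ k).left
  exact ⟨V, v, _, _, _, hv, ht, h2, hw₂, fun O hO => isQuasiAffine_open O hO⟩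

end K597.Affine
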