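import Groth.Prelude.Def_AlgSp3
import Groth.Prelude.Def_AlgSp2
import Mathlib.AlgebraicGeometry.Morphisms.UnderlyingMap

/-!
# Charts of sheaves: represented pullbacks

Basic manipulations of `AlgSp.RepWith` for maps out of `h_U` used for chart arguments; everything is for
arbitrary sheaves `F : Sp S` unless said otherwise.

* `exists_sq`: represented pullback of a `RepWith P` map along a map from a scheme.
* `exists_sq2`: represented fibre product `h_W = h_U ×_F h_V` of two maps, one of them representable.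
* `repWith_comp`, `repWith_bc`: composition, base change.
* `of_comp_etale`: a morphism between two charts over `F`.
* `exists_chart_over`: `S9887` for sheaves: charts of the source lying over a given chart of the target.
-/

set_option autoImplicit false
set_option backward.isDefEq.respectTransparency false
set_option backward.isDefEq.respectTransparency.types false
universe u
open CategoryTheory CategoryTheory.Limits AlgebraicGeometry AlgSp

namespace K597

variable {S : Scheme.{u}}

/-- Represented pullback of a `RepWith P` map along a map from a scheme. -/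
theorem exists_sq {P : MorphismProperty Scheme.{u}} {F G : Sp S} {f : F ⟶ G} (hf : RepWith P f)
    {T : Over S} (g : (yon S).obj T ⟶ G) :
    ∃ (W : Over S) (fst : (yon S).obj W ⟶ F) (snd : W ⟶ T),
      IsPullback fst ((yon S).map snd) f g ∧ P snd.left := by
  obtain ⟨W, snd, fst, sq⟩ := hf.1 g
  exact ⟨W, fst, snd, sq, hf.2 g fst snd sq⟩

/-- The represented fibre product of `a : h_U ⟶ F` (with `P`) and `b : h_V ⟶ F`. -/
theorem exists_sq2 {P : MorphismProperty Scheme.{u}} {F : Sp S} {U V : Over S}
    {a : (yon S).obj U ⟶ F} (ha : RepWith P a) (b : (yon S).obj V ⟶ F) :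
    ∃ (W : Over S) (p : W ⟶ U) (q : W ⟶ V),
      IsPullback ((yon S).map p) ((yon S).map q) a b ∧ P q.left := by
  obtain ⟨W, fst, q, sq, hq⟩ := exists_sq ha b
  obtain ⟨p, rfl⟩ := (yon S).map_surjective fst
  exact ⟨W, p, q, sq, hq⟩

theorem repWith_prop {P : MorphismProperty Scheme.{u}} {F G : Sp S} {f : F ⟶ G} (hf : RepWith P f)
    {T W : Over S} {g : (yon S).obj T ⟶ G} {fst : (yon S).obj W ⟶ F} {snd : W ⟶ T}
    (sq : IsPullback fst ((yon S).map snd) f g) : P snd.left :=
  hf.2 g fst snd sq

theorem repWith_prop' {P : MorphismProperty Scheme.{u}} {F G : Sp S} {g : F ⟶ G} (hg : RepWith P g)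
    {T W : Over S} {f : (yon S).obj T ⟶ G} {fst : W ⟶ T} {snd : (yon S).obj W ⟶ F}
    (sq : IsPullback ((yon S).map fst) snd f g) : P fst.left :=
  hg.2 f snd fst sq.flip

theorem repWith_comp (P : MorphismProperty Scheme.{u}) [P.IsStableUnderComposition] {F G H : Sp S}
    {f : F ⟶ G} {g : G ⟶ H} (hf : RepWith P f) (hg : RepWith P g) : RepWith P (f ≫ g) :=
  MorphismProperty.comp_mem (RepWith P) f g hf hg

theorem repWith_bc (P : MorphismProperty Scheme.{u}) {F G F' G' : Sp S} {f : F ⟶ G} {g : G' ⟶ G}
    {g' : F' ⟶ F} {f' : F' ⟶ G'} (sq : IsPullback g' f' f g) (hf : RepWith P f) : RepWith P f' :=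
  (RepWith P).of_isPullback sq hf

theorem repWith_bc' (P : MorphismProperty Scheme.{u}) {F G F' G' : Sp S} {f : F ⟶ G} {g : G' ⟶ G}
    {g' : F' ⟶ F} {f' : F' ⟶ G'} (sq : IsPullback g' f' f g) (hg : RepWith P g) : RepWith P g' :=
  (RepWith P).of_isPullback sq.flip hg

theorem etale_comp_stable : MorphismProperty.IsStableUnderComposition @Etale.{u} :=
  (inferInstance : MorphismProperty.IsMultiplicative @Etale.{u}).toIsStableUnderComposition

theorem surjective_comp_stable : MorphismProperty.IsStableUnderComposition @Surjective.{u} :=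
  (inferInstance : MorphismProperty.IsMultiplicative @Surjective.{u}).toIsStableUnderComposition

/-- Composition of representable etale maps. -/
theorem etale_comp {F G H : Sp S} {f : F ⟶ G} {g : G ⟶ H} (hf : RepWith @Etale f)
    (hg : RepWith @Etale g) : RepWith @Etale (f ≫ g) :=
  have := etale_comp_stable.{u}
  repWith_comp _ hf hg

/-- Composition of representable surjective maps. -/
theorem surjective_comp {F G H : Sp S} {f : F ⟶ G} {g : G ⟶ H} (hf : RepWith @Surjective f)
    (hg : RepWith @Surjective g) : RepWith @Surjective (f ≫ g) :=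
  have := surjective_comp_stable.{u}
  repWith_comp _ hf hg

theorem etale_map {U V : Over S} (g : U ⟶ V) (h : Etale g.left) : RepWith @Etale ((yon S).map g) :=
  (repWith_yon_map_iff _ g).2 h

theorem surjective_map {U V : Over S} (g : U ⟶ V) (h : Surjective g.left) :
    RepWith @Surjective ((yon S).map g) :=
  (repWith_yon_map_iff _ g).2 h

theorem repWith_mono {P Q : MorphismProperty Scheme.{u}} (h : P ≤ Q) {F G : Sp S} {f : F ⟶ G}
    (hf : RepWith P f) : RepWith Q f :=
  ⟨hf.1, fun _ _ g fst snd sq => h _ (hf.2 g fst snd sq)⟩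

/-- `RepWith (P ⊓ Q)` is `RepWith P` and `RepWith Q`. -/
theorem repWith_inf_iff {P Q : MorphismProperty Scheme.{u}} {F G : Sp S} {f : F ⟶ G} :
    RepWith (P ⊓ Q) f ↔ RepWith P f ∧ RepWith Q f :=
  ⟨fun h => ⟨⟨h.1, fun _ _ g fst snd sq => (h.2 g fst snd sq).1⟩,
    ⟨h.1, fun _ _ g fst snd sq => (h.2 g fst snd sq).2⟩⟩,
    fun h => ⟨h.1.1, fun _ _ g fst snd sq => ⟨h.1.2 g fst snd sq, h.2.2 g fst snd sq⟩⟩⟩

/-- If a morphism `m : W ⟶ U` over `F` connects `c : h_W ⟶ F` with `P` and an etale `a : h_U ⟶ F`, then `m` has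
`P` (`P` stable under base change and etale precomposition). -/
theorem of_comp_etale {P : MorphismProperty Scheme.{u}}
    (hpre : ∀ ⦃A B C : Scheme.{u}⦄ (e : A ⟶ B) (f : B ⟶ C), Etale e → P f → P (e ≫ f))
    {F : Sp S} {U W : Over S}
    {a : (yon S).obj U ⟶ F} (ha : RepWith @Etale a) {c : (yon S).obj W ⟶ F} (hc : RepWith P c) (m : W ⟶ U)
    (w : (yon S).map m ≫ a = c) : P m.left := by
  obtain ⟨W', p, q, sq, hq⟩ := exists_sq2 hc a
  have hp : Etale p.left := repWith_prop' ha sq
  -- section of `p`
  let σ : W ⟶ W' := (yon S).preimage (sq.lift (𝟙 _) ((yon S).map m) (by rw [Category.id_comp, w]))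
  have h1 : σ ≫ p = 𝟙 W := (yon S).map_injective (by simp [σ])
  have h2 : σ ≫ q = m := (yon S).map_injective (by simp [σ])
  have h3 : Etale σ.left := by
    have : Etale (σ.left ≫ p.left) := by
      rw [← Over.comp_left, h1]; dsimp; infer_instance
    exact Etale.of_comp σ.left p.left
  rw [← h2, Over.comp_left]
  exact hpre _ _ h3 hq

/-- An `h_U`-chart `a` of `F` (etale, surjective) and a map `f : F ⟶ G`, a chart `b : h_V ⟶ G`: there is a chart
of `F` lying over the chart of `G` (S9887 for sheaves). -/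
theorem exists_chart_over {F G : Sp S} (f : F ⟶ G) {U₀ V : Over S} (a₀ : (yon S).obj U₀ ⟶ F)
    (ha : RepWith @Etale a₀) (has : RepWith @Surjective a₀) (b : (yon S).obj V ⟶ G)
    (hb : RepWith @Etale b) (hbs : RepWith @Surjective b) :
    ∃ (U : Over S) (a : (yon S).obj U ⟶ F) (h : U ⟶ V), RepWith @Etale a ∧ RepWith @Surjective a ∧
      a ≫ f = (yon S).map h ≫ b := by
  obtain ⟨U, q, p, sq, hp⟩ := exists_sq2 hb (a₀ ≫ f)
  have hps : Surjective p.left := repWith_prop hbs sq
  refine ⟨U, (yon S).map p ≫ a₀, q, ?_, ?_, ?_⟩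
  · exact etale_comp (etale_map p hp) ha
  · exact surjective_comp (surjective_map p hps) has
  · rw [Category.assoc, sq.w]

end K597
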