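import Groth.Agent.AlgSp.K597.FibF
import Groth.Agent.AlgSp.K597.Chart
import Groth.Agent.S0082
import Mathlib.AlgebraicGeometry.Morphisms.LocalFlatDescent

/-!
# Effective descent of representability and of properties of morphisms of fppf sheaves

* `prop_of_etale_local`: a property `P` of morphisms of schemes that is Zariski local on the target and descends along
  fppf coverings can be checked etale locally (pointwise) on the target.
* `repWith_of_etale_local`: `RepWith P f` if, for every section `y` of the target over `U` and every point of `U`,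
  etale locally around the point the pullback of `f` is represented by a morphism with `P` from a scheme whose
  quasi-compact opens are quasi-affine.
-/

set_option autoImplicit false
set_option backward.isDefEq.respectTransparency false
set_option backward.isDefEq.respectTransparency.types false
universe u
open CategoryTheory CategoryTheory.Limits AlgebraicGeometry Opposite AlgSp

namespace K597.EffDesc

open K594.Elem K594.Cover K597.FibF

/-- fppf coverings -/
abbrev Fppf : MorphismProperty Scheme.{u} := @Surjective ⊓ @Flat ⊓ @LocallyOfFinitePresentation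

/-- Checking `P` etale locally (pointwise) on the target. -/
theorem prop_of_etale_local (P : MorphismProperty Scheme.{u}) [IsZariskiLocalAtTarget P]
    [P.DescendsAlong Fppf.{u}] {X Y : Scheme.{u}} (f : X ⟶ Y)
    (H : ∀ y : Y, ∃ (V : Scheme.{u}) (v : V ⟶ Y) (W : Scheme.{u}) (fst : W ⟶ X) (snd : W ⟶ V),
      Etale v ∧ y ∈ Set.range v ∧ IsPullback fst snd f v ∧ P snd) : P f := by
  refine IsZariskiLocalAtTarget.of_forall_exists_morphismRestrict fun y => ?_
  obtain ⟨V, v, W, fst, snd, hv, ⟨x, rfl⟩, sq, hP⟩ := H y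
  let O : Y.Opens := ⟨Set.range v, v.isOpenMap.isOpen_range⟩
  refine ⟨O, ⟨x, rfl⟩, ?_⟩
  let l : V ⟶ O.toScheme := IsOpenImmersion.lift O.ι v (by simp [O])
  have hl : l ≫ O.ι = v := IsOpenImmersion.lift_fac _ _ _
  have hle : Etale l := by
    have : Etale (l ≫ O.ι) := by rw [hl]; exact hv
    exact Etale.of_comp l O.ι
  have hls : Surjective l := by
    constructor
    rintro ⟨_, x, rfl⟩
    refine ⟨x, O.ι.isOpenEmbedding.injective ?_⟩
    rw [← Scheme.Hom.comp_apply, hl]
    rfl
  have sq1' : IsPullback (f ⁻¹ᵁ O).ι (f ∣_ O) f O.ι := (isPullback_morphismRestrict f O).flip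
  let m : W ⟶ (f ⁻¹ᵁ O).toScheme := sq1'.lift fst (snd ≫ l) (by rw [Category.assoc, hl, sq.w])
  have sq2 : IsPullback m snd (f ∣_ O) l :=
    IsPullback.of_right (t := sq1') (by rw [sq1'.lift_fst, hl]; exact sq) (sq1'.lift_snd _ _ _)
  exact MorphismProperty.of_isPullback_of_descendsAlong (Q := Fppf) sq2.flip
    ⟨⟨hls, inferInstance⟩, inferInstance⟩ hP

variable {S : Scheme.{u}} {F G : Sp S} {f : F ⟶ G}

/-- Property `P` of a representing object, checked etale locally. -/
theorem prop_of_isRep (P : MorphismProperty Scheme.{u}) [IsZariskiLocalAtTarget P]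
    [P.DescendsAlong Fppf.{u}] {U : Over S} {y : G.obj.obj (op U)} {W : Over S} {w : W ⟶ U}
    {ξ : F.obj.obj (op W)} (h : IsRep f y w ξ)
    (H : ∀ t : U.left, ∃ (V : Over S) (v : V ⟶ U) (W : Over S) (w : W ⟶ V) (ξ : F.obj.obj (op W)),
      Etale v.left ∧ t ∈ Set.range v.left ∧ IsRep f (G.obj.map v.op y) w ξ ∧ P w.left) : P w.left := by
  refine prop_of_etale_local P w.left fun t => ?_
  obtain ⟨V, v, W', w', ξ', hv, ht, h', hP⟩ := H t
  have sq := IsPullback.of_hasPullback w v
  have h1 := h.baseChange sq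
  obtain ⟨e, he, -⟩ := h1.exists_iso h'
  refine ⟨V.left, v.left, _, _, _, hv, ht, sq.map (Over.forget S), ?_⟩
  change P (pullback.snd w v).left
  rw [← he, Over.comp_left]
  exact (P.cancel_left_of_respectsIso _ _).2 hP

/-- **Etale descent of representability** together with a property `P`. -/
theorem exists_isRep (P : MorphismProperty Scheme.{u}) [IsZariskiLocalAtTarget P]
    [P.DescendsAlong Fppf.{u}] {U : Over S} {y : G.obj.obj (op U)}
    (H : ∀ t : U.left, ∃ (V : Over S) (v : V ⟶ U) (W : Over S) (w : W ⟶ V) (ξ : F.obj.obj (op W)),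
      Etale v.left ∧ t ∈ Set.range v.left ∧ IsRep f (G.obj.map v.op y) w ξ ∧ P w.left ∧
      ∀ O : W.left.Opens, IsCompact (O : Set W.left) → (O : Scheme.{u}).IsQuasiAffine) :
    ∃ (W : Over S) (w : W ⟶ U) (ξ : F.obj.obj (op W)), IsRep f y w ξ ∧ P w.left := by
  obtain ⟨W, w, ξ, h⟩ := exists_isRep_of_etale (f := f) (y := y) fun t => by
    obtain ⟨V, v, W, w, ξ, h1, h2, h3, -, h4⟩ := H t
    exact ⟨V, v, W, w, ξ, h1, h2, h3, h4⟩
  refine ⟨W, w, ξ, h, prop_of_isRep P h fun t => ?_⟩
  obtain ⟨V, v, W, w, ξ, h1, h2, h3, h4, -⟩ := H t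
  exact ⟨V, v, W, w, ξ, h1, h2, h3, h4⟩

/-- `RepWith P f` checked etale locally on sections of the target. -/
theorem repWith_of_etale_local (P : MorphismProperty Scheme.{u}) [IsZariskiLocalAtTarget P]
    [P.DescendsAlong Fppf.{u}]
    (H : ∀ (U : Over S) (y : G.obj.obj (op U)) (t : U.left),
      ∃ (V : Over S) (v : V ⟶ U) (W : Over S) (w : W ⟶ V) (ξ : F.obj.obj (op W)),
      Etale v.left ∧ t ∈ Set.range v.left ∧ IsRep f (G.obj.map v.op y) w ξ ∧ P w.left ∧
      ∀ O : W.left.Opens, IsCompact (O : Set W.left) → (O : Scheme.{u}).IsQuasiAffine) :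
    RepWith P f :=
  repWith_of_exists P f fun {U} y => exists_isRep P (H U y)

/-- Quasi-compact opens of a quasi-affine scheme are quasi-affine. -/
theorem isQuasiAffine_open {X : Scheme.{u}} [X.IsQuasiAffine] (O : X.Opens) (hO : IsCompact (O : Set X)) :
    (O : Scheme.{u}).IsQuasiAffine := by
  have : CompactSpace O := isCompact_iff_compactSpace.1 hO
  exact Scheme.IsQuasiAffine.of_isImmersion O.ι

/-- affine morphisms descend along fppf coverings. -/
theorem descendsAlong_isAffineHom : MorphismProperty.DescendsAlong @IsAffineHom Fppf.{u} := by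
  have := Groth.Agent.S0082.result.{u}
  infer_instance

end K597.EffDesc
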