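import Groth.Agent.AlgSp.K597.EtLocDef
import Mathlib.AlgebraicGeometry.Morphisms.QuasiFinite
import Mathlib.AlgebraicGeometry.Morphisms.FinitePresentation
import Groth.Agent.S0114
import Groth.Agent.S0115
import Groth.Agent.S1163
import Groth.Agent.S1179
import Groth.Agent.S1180
import Groth.Agent.Desc.SourceCover
import Groth.Agent.Desc.EtaleSource
import Mathlib.AlgebraicGeometry.Morphisms.UniversallyOpen

/-!
# Properties of morphisms of schemes that are etale local on the source and target

`K597.EtLoc P`: `P` is stable under pre- and postcomposition with etale morphisms, is cancelled by etale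
morphisms on the right (`P (f ≫ e)`, `e` etale imply `P f`) and descends along etale surjections of the
source (`P (e ≫ f)`, `e` etale surjective imply `P f`).

Instances (as theorems): `etLoc_lft`, `etLoc_lfp`, `etLoc_flat`, `etLoc_smooth`, `etLoc_etale`,
`etLoc_lqf` (for `@LocallyQuasiFinite ⊓ @LocallyOfFiniteType`), `etLoc_unram`
(for `@LocallyOfFiniteType ⊓ @FormallyUnramified`), and `etLoc_of_list`, `stableBC_of_list`,
`stableComp_of_list` for the disjunctions used in the statements.
-/

set_option autoImplicit false
set_option backward.isDefEq.respectTransparency false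
set_option backward.isDefEq.respectTransparency.types false
universe u
open CategoryTheory CategoryTheory.Limits AlgebraicGeometry

namespace K597

theorem EtLoc.of_iff {P Q : MorphismProperty Scheme.{u}} (hP : EtLoc P)
    (h : ∀ ⦃A B : Scheme.{u}⦄ (g : A ⟶ B), Q g ↔ P g) : EtLoc Q := by
  obtain rfl : Q = P := by
    funext A B g; exact propext (h g)
  exact hP

/-- Infimum of two properties stable under base change. -/
theorem stableBC_inf (P Q : MorphismProperty Scheme.{u}) [P.IsStableUnderBaseChange]
    [Q.IsStableUnderBaseChange] : (P ⊓ Q).IsStableUnderBaseChange where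
  of_isPullback sq h := ⟨P.of_isPullback sq h.1, Q.of_isPullback sq h.2⟩

/-- Infimum of two properties Zariski local on the source. -/
theorem zarSource_inf (P Q : MorphismProperty Scheme.{u}) [IsZariskiLocalAtSource P]
    [IsZariskiLocalAtSource Q] : IsZariskiLocalAtSource (P ⊓ Q) := by
  have : (P ⊓ Q).RespectsIso := MorphismProperty.RespectsIso.mk _
    (fun e f hf => ⟨(P.cancel_left_of_respectsIso _ _).2 hf.1, (Q.cancel_left_of_respectsIso _ _).2 hf.2⟩)
    (fun e f hf => ⟨(P.cancel_right_of_respectsIso _ _).2 hf.1, (Q.cancel_right_of_respectsIso _ _).2 hf.2⟩)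
  refine IsZariskiLocalAtSource.mk' (fun f U h => ⟨IsZariskiLocalAtSource.comp h.1 _,
    IsZariskiLocalAtSource.comp h.2 _⟩) fun f _ U hU h =>
      ⟨IsZariskiLocalAtSource.of_iSup_eq_top U hU fun i => (h i).1,
        IsZariskiLocalAtSource.of_iSup_eq_top U hU fun i => (h i).2⟩

/-- Infimum of two properties stable under composition. -/
theorem stableComp_inf (P Q : MorphismProperty Scheme.{u}) [P.IsStableUnderComposition]
    [Q.IsStableUnderComposition] : (P ⊓ Q).IsStableUnderComposition where
  comp_mem _ _ hf hg := ⟨P.comp_mem _ _ hf.1 hg.1, Q.comp_mem _ _ hf.2 hg.2⟩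

theorem etLoc_lft : EtLoc @LocallyOfFiniteType.{u} := by
  refine EtLoc.mk' (fun A B e h => inferInstance) ?_
  intro A B C e f he hs h
  refine Groth.Agent.Desc.SourceCover.of_open_cover_source (P := @LocallyOfFiniteType)
      (P' := @Etale) (RingHom.finiteType_stableUnderComposition
        |>.stableUnderCompositionWithLocalizationAway
          RingHom.finiteType_holdsForLocalizationAway).1 e f inferInstance e.isOpenMap
      h ?_
  intro A B C _ _ _ φ ψ hψ hs h
  algebraize [φ, ψ, ψ.comp φ]
  have : Module.FaithfullyFlat B C := Module.FaithfullyFlat.of_comap_surjective hs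
  exact Groth.Agent.Desc.EtaleSource.finiteType_of_etale_faithfullyFlat A B C

theorem etLoc_lfp : EtLoc @LocallyOfFinitePresentation.{u} := by
  refine EtLoc.mk' (fun A B e h => inferInstance) ?_
  intro A B C e f he hs h
  exact Groth.Agent.S0114.result e f

theorem etLoc_flat : EtLoc @Flat.{u} := by
  refine EtLoc.mk' (fun A B e h => inferInstance) ?_
  intro A B C e f he hs h
  exact Groth.Agent.S1163.result e f e (𝟙 A) (by simp)

theorem etLoc_smooth : EtLoc @Smooth.{u} := by
  refine EtLoc.mk' (fun A B e h => inferInstance) ?_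
  intro A B C e f he hs h
  exact Groth.Agent.S0115.result e f

theorem etLoc_unram : EtLoc (@LocallyOfFiniteType.{u} ⊓ @FormallyUnramified.{u}) := by
  have := stableBC_inf @LocallyOfFiniteType.{u} @FormallyUnramified.{u}
  have := stableComp_inf @LocallyOfFiniteType.{u} @FormallyUnramified.{u}
  have := zarSource_inf @LocallyOfFiniteType.{u} @FormallyUnramified.{u}
  refine EtLoc.mk' (fun A B e h => ⟨inferInstance, inferInstance⟩) ?_
  rintro A B C e f he hs ⟨h1, h2⟩
  exact (Groth.Agent.S1180.result e f).symm

/-- An unramified morphism (formally unramified, locally of finite type) is locally quasi-finite. -/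
theorem locallyQuasiFinite_of_unramified {X Y : Scheme.{u}} (f : X ⟶ Y) [FormallyUnramified f]
    [LocallyOfFiniteType f] : LocallyQuasiFinite f := by
  rw [HasRingHomProperty.eq_affineLocally (P := @LocallyQuasiFinite), affineLocally_iff_affineOpens_le]
  intro V W h
  have h1 : (f.appLE V W h).hom.FormallyUnramified :=
    HasRingHomProperty.appLE @FormallyUnramified f inferInstance V W h
  have h2 : (f.appLE V W h).hom.FiniteType :=
    HasRingHomProperty.appLE @LocallyOfFiniteType f inferInstance V W h
  algebraize [(f.appLE V W h).hom]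
  exact (RingHom.quasiFinite_algebraMap ..).mpr inferInstance

/-- An etale morphism is locally quasi-finite. -/
theorem locallyQuasiFinite_of_etale {X Y : Scheme.{u}} (f : X ⟶ Y) [Etale f] : LocallyQuasiFinite f :=
  locallyQuasiFinite_of_unramified f

theorem etLoc_lqf : EtLoc (@LocallyQuasiFinite.{u} ⊓ @LocallyOfFiniteType.{u}) := by
  have := stableBC_inf @LocallyQuasiFinite.{u} @LocallyOfFiniteType.{u}
  have := stableComp_inf @LocallyQuasiFinite.{u} @LocallyOfFiniteType.{u}
  have := zarSource_inf @LocallyQuasiFinite.{u} @LocallyOfFiniteType.{u}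
  refine EtLoc.mk' (fun A B e h => ⟨locallyQuasiFinite_of_etale e, inferInstance⟩) ?_
  rintro A B C e f he hs ⟨h1, h2⟩
  exact (Groth.Agent.S1179.result e f)

theorem etLoc_etale : EtLoc @Etale.{u} := by
  have : MorphismProperty.IsMultiplicative @Etale.{u} := inferInstance
  have : MorphismProperty.IsStableUnderComposition @Etale.{u} := this.toIsStableUnderComposition
  refine EtLoc.mk' (fun A B e h => h) ?_
  intro A B C e f he hs h
  have h1 : Smooth f := etLoc_smooth.descend e f he hs inferInstance
  have h2 : LocallyOfFiniteType f ∧ FormallyUnramified f :=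
    etLoc_unram.descend e f he hs ⟨inferInstance, inferInstance⟩
  have := h2.2
  exact Etale.of_formallyUnramified_of_flat f

/-- The disjunction used in the statements. -/
abbrev IsListed (P : MorphismProperty Scheme.{u}) : Prop :=
  P = @LocallyOfFiniteType ∨ P = @LocallyOfFinitePresentation ∨ P = @Flat ∨ P = @Smooth ∨ P = @Etale ∨
      (∀ ⦃A B : Scheme.{u}⦄ (g : A ⟶ B), P g ↔ (LocallyQuasiFinite g ∧ LocallyOfFiniteType g)) ∨
      (∀ ⦃A B : Scheme.{u}⦄ (g : A ⟶ B), P g ↔ (LocallyOfFiniteType g ∧ FormallyUnramified g))

theorem eq_of_forall_iff {P Q : MorphismProperty Scheme.{u}}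
    (h : ∀ ⦃A B : Scheme.{u}⦄ (g : A ⟶ B), P g ↔ Q g) : P = Q := by
  funext A B g; exact propext (h g)

theorem isListed_iff (P : MorphismProperty Scheme.{u}) : IsListed P ↔
    P = @LocallyOfFiniteType ∨ P = @LocallyOfFinitePresentation ∨ P = @Flat ∨ P = @Smooth ∨ P = @Etale ∨
      P = (@LocallyQuasiFinite ⊓ @LocallyOfFiniteType : MorphismProperty Scheme.{u}) ∨
      P = (@LocallyOfFiniteType ⊓ @FormallyUnramified : MorphismProperty Scheme.{u}) := by
  constructor
  · rintro (h | h | h | h | h | h | h)
    · exact .inl h
    · exact .inr (.inl h)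
    · exact .inr (.inr (.inl h))
    · exact .inr (.inr (.inr (.inl h)))
    · exact .inr (.inr (.inr (.inr (.inl h))))
    · exact .inr (.inr (.inr (.inr (.inr (.inl (eq_of_forall_iff h))))))
    · exact .inr (.inr (.inr (.inr (.inr (.inr (eq_of_forall_iff h))))))
  · rintro (h | h | h | h | h | h | h)
    · exact .inl h
    · exact .inr (.inl h)
    · exact .inr (.inr (.inl h))
    · exact .inr (.inr (.inr (.inl h)))
    · exact .inr (.inr (.inr (.inr (.inl h))))
    · exact .inr (.inr (.inr (.inr (.inr (.inl fun A B g => by rw [h]; rfl)))))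
    · exact .inr (.inr (.inr (.inr (.inr (.inr fun A B g => by rw [h]; rfl)))))

theorem etLoc_of_listed {P : MorphismProperty Scheme.{u}} (h : IsListed P) : EtLoc P := by
  rcases (isListed_iff P).1 h with rfl | rfl | rfl | rfl | rfl | rfl | rfl
  exacts [etLoc_lft, etLoc_lfp, etLoc_flat, etLoc_smooth, etLoc_etale, etLoc_lqf, etLoc_unram]

theorem stableBC_of_listed {P : MorphismProperty Scheme.{u}} (h : IsListed P) :
    P.IsStableUnderBaseChange := by
  rcases (isListed_iff P).1 h with rfl | rfl | rfl | rfl | rfl | rfl | rfl
  exacts [inferInstance, inferInstance, inferInstance, inferInstance, inferInstance,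
    stableBC_inf _ _, stableBC_inf _ _]

theorem stableComp_of_listed {P : MorphismProperty Scheme.{u}} (h : IsListed P) :
    P.IsStableUnderComposition := by
  rcases (isListed_iff P).1 h with rfl | rfl | rfl | rfl | rfl | rfl | rfl
  exacts [inferInstance, inferInstance, inferInstance, inferInstance,
    (inferInstance : MorphismProperty.IsMultiplicative @Etale.{u}).toIsStableUnderComposition,
    stableComp_inf _ _, stableComp_inf _ _]

end K597
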