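import Mathlib.AlgebraicGeometry.Morphisms.Etale
import Mathlib.AlgebraicGeometry.Morphisms.UnderlyingMap
import Mathlib.AlgebraicGeometry.Morphisms.UniversallyOpen

/-!
# Properties of morphisms of schemes that are etale local on the source and target

`K597.EtLoc P`: `P` is stable under pre- and postcomposition with etale morphisms, is cancelled by etale
morphisms on the right (`P (f ≫ e)`, `e` etale imply `P f`) and is etale local on the source, in the pointwise
form.  See `K597/EtLoc.lean` for the standard classes.
-/

set_option autoImplicit false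
set_option backward.isDefEq.respectTransparency false
set_option backward.isDefEq.respectTransparency.types false
universe u
open CategoryTheory CategoryTheory.Limits AlgebraicGeometry

namespace K597

/-- `P` is etale local on the source and target. -/
structure EtLoc (P : MorphismProperty Scheme.{u}) : Prop where
  precomp : ∀ ⦃A B C : Scheme.{u}⦄ (e : A ⟶ B) (f : B ⟶ C), Etale e → P f → P (e ≫ f)
  postcomp : ∀ ⦃A B C : Scheme.{u}⦄ (f : A ⟶ B) (e : B ⟶ C), Etale e → P f → P (f ≫ e)
  cancel : ∀ ⦃A B C : Scheme.{u}⦄ (f : A ⟶ B) (e : B ⟶ C), Etale e → P (f ≫ e) → P f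
  descend' : ∀ ⦃B C : Scheme.{u}⦄ (f : B ⟶ C),
    (∀ b : B, ∃ (A : Scheme.{u}) (e : A ⟶ B), Etale e ∧ b ∈ Set.range e ∧ P (e ≫ f)) → P f

namespace EtLoc

/-- Descent along an etale surjection of the source. -/
theorem descend {P : MorphismProperty Scheme.{u}} (hP : EtLoc P) ⦃A B C : Scheme.{u}⦄ (e : A ⟶ B)
    (f : B ⟶ C) (he : Etale e) (hs : Surjective e) (h : P (e ≫ f)) : P f :=
  hP.descend' f fun b => ⟨A, e, he, hs.surj b, h⟩

/-- Stability under base change and composition, together with "etale morphisms have `P`", Zariski locality on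
the source and descent along etale surjections of the source suffice. -/
theorem mk' {P : MorphismProperty Scheme.{u}} [P.IsStableUnderBaseChange] [P.IsStableUnderComposition]
    [IsZariskiLocalAtSource P]
    (he : ∀ ⦃A B : Scheme.{u}⦄ (e : A ⟶ B), Etale e → P e)
    (hd : ∀ ⦃A B C : Scheme.{u}⦄ (e : A ⟶ B) (f : B ⟶ C), Etale e → Surjective e → P (e ≫ f) → P f) :
    EtLoc P where
  precomp _ _ _ e f h hf := P.comp_mem _ _ (he e h) hf
  postcomp _ _ _ f e h hf := P.comp_mem _ _ hf (he e h)
  cancel A B C f e h hf := by
    have h1 : f = pullback.lift (𝟙 A) f (by simp) ≫ pullback.snd (f ≫ e) e :=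
      (pullback.lift_snd _ _ _).symm
    rw [h1]
    refine P.comp_mem _ _ (he _ ?_) (P.pullback_snd _ _ hf)
    have : Etale (pullback.lift (𝟙 A) f (by simp) ≫ pullback.fst (f ≫ e) e) := by
      rw [pullback.lift_fst]; infer_instance
    exact Etale.of_comp _ (pullback.fst (f ≫ e) e)
  descend' B C f h := by
    choose A e h1 h2 h3 using h
    let O : B → B.Opens := fun b => ⟨Set.range (e b), (e b).isOpenMap.isOpen_range⟩
    have hO : iSup O = ⊤ := by
      rw [eq_top_iff]
      intro b _
      exact TopologicalSpace.Opens.mem_iSup.2 ⟨b, h2 b⟩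
    refine IsZariskiLocalAtSource.of_iSup_eq_top O hO fun b => ?_
    let l : A b ⟶ (O b).toScheme := IsOpenImmersion.lift (O b).ι (e b) (by simp [O])
    have hl : l ≫ (O b).ι = e b := IsOpenImmersion.lift_fac _ _ _
    have hle : Etale l := by
      have : Etale (l ≫ (O b).ι) := by rw [hl]; exact h1 b
      exact Etale.of_comp l (O b).ι
    have hls : Surjective l := by
      constructor
      rintro ⟨_, x, rfl⟩
      refine ⟨x, (O b).ι.isOpenEmbedding.injective ?_⟩
      rw [← Scheme.Hom.comp_apply, hl]
      rfl
    refine hd l _ hle hls ?_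
    rw [← Category.assoc, hl]
    exact h3 b

end EtLoc

end K597
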