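import Groth.Agent.AlgSp.K597.Chart
import Groth.Agent.AlgSp.K597.EtLocDef

/-!
# The calculus of `AlgSp.LocP P` for `P` etale local on the source and target

For `hP : EtLoc P` (see `K597/EtLocDef.lean`; instances in `K597/EtLoc.lean`), with `F G H` arbitrary sheaves
(`Sp S`) unless a chart is needed:

* `locP_of_chart` (S9947): one chart diagram with `P` and surjective etale source chart suffices.
* `locP_of_repWith`: `RepWith P f → LocP P f`; `repWith_of_locP`: the converse for `f` representable when the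
  target has a chart; `locP_iff_repWith` (S9948).
* `locP_bc` (S9984): base change; `locP_comp` (S9985): composition; `locP_of_comp`: cancellation (S9952).
* `locP_of_source`, `locP_of_target`: descent along an etale surjective chart of the source / target.
* `locP_precomp_etale`, `locP_postcomp_etale`.
* `locP_etale_iff_isEtaleMor`.
-/

set_option autoImplicit false
set_option backward.isDefEq.respectTransparency false
set_option backward.isDefEq.respectTransparency.types false
universe u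
open CategoryTheory CategoryTheory.Limits AlgebraicGeometry AlgSp

namespace K597

variable {S : Scheme.{u}} {P : MorphismProperty Scheme.{u}}

/-- The sheaf `F` has an etale surjective chart (the atlas part of `IsAlgSpace`). -/
def HasAtlas (F : Sp S) : Prop :=
  ∃ (U : Over S) (p : (yon S).obj U ⟶ F), RepWith @Etale p ∧ RepWith @Surjective p

theorem _root_.AlgSp.IsAlgSpace.hasAtlas {F : Sp S} (hF : IsAlgSpace F) : HasAtlas F := hF.atlas

/-- Local form of the one chart criterion: it is enough that every point of every etale chart of the source is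
reached by a chart diagram with `P`. -/
theorem locP_of_local (hP : EtLoc P) {F G : Sp S} (f : F ⟶ G)
    (H : ∀ ⦃U' : Over S⦄ (a' : (yon S).obj U' ⟶ F) (_ : RepWith @Etale a') (x : U'.left),
      ∃ (U V W : Over S) (a : (yon S).obj U ⟶ F) (b : (yon S).obj V ⟶ G) (h : U ⟶ V) (p : W ⟶ U) (q : W ⟶ U'),
        RepWith @Etale b ∧ a ≫ f = (yon S).map h ≫ b ∧ P h.left ∧
        (yon S).map p ≫ a = (yon S).map q ≫ a' ∧ Etale p.left ∧ Etale q.left ∧ x ∈ Set.range q.left) :
    LocP P f := by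
  intro U' V' a' b' h' ha' hb' comm'
  refine hP.descend' h'.left fun x => ?_
  obtain ⟨U, V, W, a, b, h, p, q, hb, comm, hh, hpq, hp, hq, hx⟩ := H a' ha' x
  obtain ⟨V'', r, s, sq', hs⟩ := exists_sq2 hb b'
  have hr : Etale r.left := repWith_prop' hb' sq'
  let k : W ⟶ V'' := (yon S).preimage (sq'.lift ((yon S).map (p ≫ h)) ((yon S).map (q ≫ h')) (by
    rw [Functor.map_comp, Category.assoc, ← comm, ← Category.assoc, hpq, Category.assoc, comm',
      Functor.map_comp, Category.assoc]))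
  have hk1 : k ≫ r = p ≫ h := (yon S).map_injective (by simp [k])
  have hk2 : k ≫ s = q ≫ h' := (yon S).map_injective (by simp [k])
  have h1 : P (p.left ≫ h.left) := hP.precomp _ _ hp hh
  have h2 : P k.left := by
    refine hP.cancel _ r.left hr ?_
    rw [← Over.comp_left, hk1, Over.comp_left]
    exact h1
  have h3 : P (k.left ≫ s.left) := hP.postcomp _ _ hs h2
  refine ⟨W.left, q.left, hq, hx, ?_⟩
  rw [← Over.comp_left, hk2, Over.comp_left] at h3
  exact h3

/-- **One chart criterion** (S9947). -/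
theorem locP_of_chart (hP : EtLoc P) {F G : Sp S} (f : F ⟶ G) {U V : Over S}
    (a : (yon S).obj U ⟶ F) (b : (yon S).obj V ⟶ G) (h : U ⟶ V)
    (ha : RepWith @Etale a) (has : RepWith @Surjective a) (hb : RepWith @Etale b)
    (comm : a ≫ f = (yon S).map h ≫ b) (hh : P h.left) : LocP P f := by
  refine locP_of_local hP f fun U' a' ha' x => ?_
  obtain ⟨W, p, q, sq, hq⟩ := exists_sq2 ha a'
  have hqs : Surjective q.left := repWith_prop has sq
  have hp : Etale p.left := repWith_prop' ha' sq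
  exact ⟨U, V, W, a, b, h, p, q, hb, comm, hh, sq.w, hp, hq, hqs.surj x⟩

/-- A representable morphism with `P` has `P` etale locally on the source and target. -/
theorem locP_of_repWith (hpre : ∀ ⦃A B C : Scheme.{u}⦄ (e : A ⟶ B) (f : B ⟶ C), Etale e → P f → P (e ≫ f))
    {F G : Sp S} {f : F ⟶ G} (hf : RepWith P f) : LocP P f := by
  intro U V a b h ha hb comm
  obtain ⟨W, fst, snd, sq, hs⟩ := exists_sq hf b
  let k : U ⟶ W := (yon S).preimage (sq.lift a ((yon S).map h) comm)
  have hk1 : (yon S).map k ≫ fst = a := by simp [k]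
  have hk2 : k ≫ snd = h := (yon S).map_injective (by simp [k])
  have hfst : RepWith @Etale fst := repWith_bc' _ sq hb
  have hk : Etale k.left := of_comp_etale (P := @Etale) (fun A B C e f he hf => inferInstance) hfst ha k hk1
  rw [← hk2, Over.comp_left]
  exact hpre _ _ hk hs

/-- For `f` representable and a target with a chart, `P` etale locally implies `P` in the representable sense. -/
theorem repWith_of_locP (hP : EtLoc P) [P.IsStableUnderBaseChange] {F G : Sp S} (hG : HasAtlas G)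
    {f : F ⟶ G} (hf : Representable f) (h : LocP P f) : RepWith P f := by
  refine ⟨hf, fun T W g fst snd sq => ?_⟩
  obtain ⟨V, b, hb, hbs⟩ := hG
  obtain ⟨X, s, t, sqX⟩ := hf b
  -- `s : X ⟶ V` the pullback of `f` along `b`
  have hs : P s.left := h t b s (repWith_bc' _ sqX hb) hb sqX.w
  -- `T' = T ×_G V`
  obtain ⟨T', r, q, sqT, hq⟩ := exists_sq2 hb g
  have hqs : Surjective q.left := repWith_prop hbs sqT
  -- `W' = W ×_T T'`
  have sqW := IsPullback.of_hasPullback snd q
  have sqW' := sqW.map (Over.forget S)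
  have h1 : Etale (pullback.fst snd q).left := MorphismProperty.of_isPullback sqW'.flip hq
  have h2 : Surjective (pullback.fst snd q).left := MorphismProperty.of_isPullback sqW'.flip hqs
  -- `W' = X ×_V T'`
  have sq1 : IsPullback ((yon S).map (pullback.fst snd q) ≫ fst) ((yon S).map (pullback.snd snd q)) f
      ((yon S).map q ≫ g) := (IsPullback.paste_horiz (sqW.map (yon S)).flip.flip sq.flip.flip)
  have hqr : (yon S).map q ≫ g = (yon S).map r ≫ b := sqT.w.symm
  rw [hqr] at sq1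
  have h3 : P (pullback.snd snd q).left := by
    let m : pullback snd q ⟶ X := (yon S).preimage (sqX.lift ((yon S).map (pullback.fst snd q) ≫ fst)
      ((yon S).map (pullback.snd snd q ≫ r)) (by rw [sq1.w, Functor.map_comp, Category.assoc]))
    have hm1 : (yon S).map m ≫ t = (yon S).map (pullback.fst snd q) ≫ fst := by simp [m]
    have hm2 : m ≫ s = pullback.snd snd q ≫ r := (yon S).map_injective (by simp [m])
    have sq2 : IsPullback ((yon S).map m) ((yon S).map (pullback.snd snd q)) ((yon S).map s)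
        ((yon S).map r) := by
      refine IsPullback.of_right (t := sqX) ?_ ?_
      · rw [hm1]; exact sq1
      · rw [← Functor.map_comp, hm2, Functor.map_comp]
    have sq3 : IsPullback m (pullback.snd snd q) s r := IsPullback.of_map (yon S) hm2 sq2
    exact MorphismProperty.of_isPullback (sq3.map (Over.forget S)) hs
  refine hP.descend _ _ h1 h2 ?_
  have h4 := hP.postcomp _ _ hq h3
  rw [← Over.comp_left, ← sqW.w, Over.comp_left] at h4
  exact h4

/-- Representable clause (S9948). -/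
theorem locP_iff_repWith (hP : EtLoc P) [P.IsStableUnderBaseChange] {F G : Sp S} (hG : HasAtlas G)
    {f : F ⟶ G} (hf : Representable f) : LocP P f ↔ RepWith P f :=
  ⟨repWith_of_locP hP hG hf, locP_of_repWith hP.precomp⟩

/-- Charts of a fibre product: from `h_U' = h_U₀ ×_G h_V'` one gets a chart `h_U' ⟶ F'` of `F' = F ×_G G'`. -/
theorem exists_chart_bc (Q : MorphismProperty Scheme.{u}) [Q.IsStableUnderComposition]
    {F G F' G' : Sp S} {f : F ⟶ G} {g : G' ⟶ G}
    {g' : F' ⟶ F} {f' : F' ⟶ G'} (sq : IsPullback g' f' f g) {U₀ V' U' : Over S}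
    {a : (yon S).obj U₀ ⟶ F} {c : (yon S).obj V' ⟶ G'} {p : U' ⟶ U₀} {q : U' ⟶ V'}
    (sq' : IsPullback ((yon S).map p) ((yon S).map q) (a ≫ f) (c ≫ g))
    (ha : RepWith Q a) (hc : RepWith Q c) :
    ∃ α : (yon S).obj U' ⟶ F', RepWith Q α ∧ α ≫ g' = (yon S).map p ≫ a ∧ α ≫ f' = (yon S).map q ≫ c := by
  have w1 : ((yon S).map p ≫ a) ≫ f = ((yon S).map q ≫ c) ≫ g := by
    rw [Category.assoc, Category.assoc]; exact sq'.w
  let Q₀ := IsPullback.of_hasPullback f (c ≫ g)
  have w2 : pullback.fst f (c ≫ g) ≫ f = (pullback.snd f (c ≫ g) ≫ c) ≫ g := by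
    rw [Category.assoc]; exact Q₀.w
  let γ : pullback f (c ≫ g) ⟶ F' := sq.lift (pullback.fst _ _) (pullback.snd _ _ ≫ c) w2
  let β : (yon S).obj U' ⟶ pullback f (c ≫ g) := Q₀.lift ((yon S).map p ≫ a) ((yon S).map q) (by
    rw [Category.assoc]; exact sq'.w)
  have hγ1 : γ ≫ g' = pullback.fst _ _ := sq.lift_fst _ _ _
  have hγ2 : γ ≫ f' = pullback.snd _ _ ≫ c := sq.lift_snd _ _ _
  have hβ1 : β ≫ pullback.fst _ _ = (yon S).map p ≫ a := Q₀.lift_fst _ _ _
  have hβ2 : β ≫ pullback.snd _ _ = (yon S).map q := Q₀.lift_snd _ _ _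
  have sqγ : IsPullback γ (pullback.snd f (c ≫ g)) f' c :=
    IsPullback.of_right (by rw [hγ1]; exact Q₀) hγ2 sq
  have sqβ : IsPullback β ((yon S).map p) (pullback.fst f (c ≫ g)) a :=
    IsPullback.of_right (by rw [hβ2]; exact sq'.flip) hβ1 Q₀.flip
  refine ⟨β ≫ γ, ?_, ?_, ?_⟩
  · exact repWith_comp _ ((RepWith Q).of_isPullback sqβ.flip ha) ((RepWith Q).of_isPullback sqγ.flip hc)
  · rw [Category.assoc, hγ1, hβ1]
  · rw [Category.assoc, hγ2, ← Category.assoc, hβ2]

theorem etsurj_comp_stable : (@Etale ⊓ @Surjective : MorphismProperty Scheme.{u}).IsStableUnderComposition where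
  comp_mem f g hf hg := by
    obtain ⟨h1, h2⟩ := hf
    obtain ⟨h3, h4⟩ := hg
    exact ⟨inferInstance, inferInstance⟩

/-- Charts of a fibre product, etale surjective case. -/
theorem exists_chart_bc' {F G F' G' : Sp S} {f : F ⟶ G} {g : G' ⟶ G}
    {g' : F' ⟶ F} {f' : F' ⟶ G'} (sq : IsPullback g' f' f g) {U₀ V' U' : Over S}
    {a : (yon S).obj U₀ ⟶ F} {c : (yon S).obj V' ⟶ G'} {p : U' ⟶ U₀} {q : U' ⟶ V'}
    (sq' : IsPullback ((yon S).map p) ((yon S).map q) (a ≫ f) (c ≫ g))
    (ha : RepWith @Etale a) (has : RepWith @Surjective a) (hc : RepWith @Etale c)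
    (hcs : RepWith @Surjective c) :
    ∃ α : (yon S).obj U' ⟶ F', RepWith @Etale α ∧ RepWith @Surjective α ∧
      α ≫ g' = (yon S).map p ≫ a ∧ α ≫ f' = (yon S).map q ≫ c := by
  have := etsurj_comp_stable.{u}
  obtain ⟨α, h1, h2, h3⟩ := exists_chart_bc (@Etale ⊓ @Surjective) sq sq' (repWith_inf_iff.2 ⟨ha, has⟩)
    (repWith_inf_iff.2 ⟨hc, hcs⟩)
  exact ⟨α, (repWith_inf_iff.1 h1).1, (repWith_inf_iff.1 h1).2, h2, h3⟩

/-- Base change (S9984). -/
theorem locP_bc (hP : EtLoc P) [P.IsStableUnderBaseChange] {F G F' G' : Sp S} {f : F ⟶ G} {g : G' ⟶ G}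
    {g' : F' ⟶ F} {f' : F' ⟶ G'} (sq : IsPullback g' f' f g) (hF : HasAtlas F) (hG : HasAtlas G)
    (hG' : HasAtlas G') (h : LocP P f) : LocP P f' := by
  obtain ⟨U₀, a₀, ha, has⟩ := hF
  obtain ⟨V, b, hb, hbs⟩ := hG
  obtain ⟨V₁, c₁, hc₁, hcs₁⟩ := hG'
  obtain ⟨V', c, k, hc, hcs, hk⟩ := exists_chart_over g c₁ hc₁ hcs₁ b hb hbs
  -- `U = U₀ ×_G V`
  obtain ⟨U, s, t, sqU, ht⟩ := exists_sq2 hb (a₀ ≫ f)
  have hs : P s.left := h ((yon S).map t ≫ a₀) b s (etale_comp (etale_map t ht) ha) hb (by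
    rw [Category.assoc, sqU.w])
  -- `U' = U ×_V V'`
  let U' := pullback s k
  have sq1 : IsPullback ((yon S).map (pullback.fst s k ≫ t)) ((yon S).map (pullback.snd s k)) (a₀ ≫ f)
      (c ≫ g) := by
    rw [hk, Functor.map_comp]
    exact IsPullback.paste_horiz ((IsPullback.of_hasPullback s k).map (yon S)) sqU.flip
  obtain ⟨α, h1, h2, h3, h4⟩ := exists_chart_bc' sq sq1 ha has hc hcs
  refine locP_of_chart hP f' α c (pullback.snd s k) h1 h2 hc h4 ?_
  exact MorphismProperty.of_isPullback ((IsPullback.of_hasPullback s k).map (Over.forget S)) hs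

/-- Composition (S9985). -/
theorem locP_comp (hP : EtLoc P) [P.IsStableUnderComposition] {F G H : Sp S} {f : F ⟶ G} {g : G ⟶ H}
    (hF : HasAtlas F) (hG : HasAtlas G) (hH : HasAtlas H) (hf : LocP P f) (hg : LocP P g) :
    LocP P (f ≫ g) := by
  obtain ⟨U₀, a₀, ha₀, has₀⟩ := hF
  obtain ⟨V₀, b₀, hb₀, hbs₀⟩ := hG
  obtain ⟨W, c, hc, hcs⟩ := hH
  obtain ⟨V, b, k, hb, hbs, hk⟩ := exists_chart_over g b₀ hb₀ hbs₀ c hc hcs
  obtain ⟨U, a, h, ha, has, hh⟩ := exists_chart_over f a₀ ha₀ has₀ b hb hbs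
  refine locP_of_chart hP (f ≫ g) a c (h ≫ k) ha has hc ?_ ?_
  · rw [← Category.assoc, hh, Category.assoc, hk, Functor.map_comp, Category.assoc]
  · rw [Over.comp_left]
    exact P.comp_mem _ _ (hf a b h ha hb hh) (hg b c k hb hc hk)

/-- Cancellation (S9952): if `P (u ≫ v)` and `Q v` imply `P u`. -/
theorem locP_of_comp (hP : EtLoc P) {Q : MorphismProperty Scheme.{u}}
    (hPQ : ∀ ⦃A B C : Scheme.{u}⦄ (u : A ⟶ B) (v : B ⟶ C), P (u ≫ v) → Q v → P u)
    {F G H : Sp S} {f : F ⟶ G} {g : G ⟶ H}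
    (hF : HasAtlas F) (hG : HasAtlas G) (hH : HasAtlas H) (hfg : LocP P (f ≫ g)) (hg : LocP Q g) :
    LocP P f := by
  obtain ⟨U₀, a₀, ha₀, has₀⟩ := hF
  obtain ⟨V₀, b₀, hb₀, hbs₀⟩ := hG
  obtain ⟨W, c, hc, hcs⟩ := hH
  obtain ⟨V, b, k, hb, hbs, hk⟩ := exists_chart_over g b₀ hb₀ hbs₀ c hc hcs
  obtain ⟨U, a, h, ha, has, hh⟩ := exists_chart_over f a₀ ha₀ has₀ b hb hbs
  refine locP_of_chart hP f a b h ha has hb hh ?_
  refine hPQ h.left k.left ?_ (hg b c k hb hc hk)
  rw [← Over.comp_left]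
  exact hfg a c (h ≫ k) ha hc (by
    rw [← Category.assoc, hh, Category.assoc, hk, Functor.map_comp, Category.assoc])

/-- Unconditional cancellation. -/
theorem locP_of_comp' (hP : EtLoc P)
    (hPQ : ∀ ⦃A B C : Scheme.{u}⦄ (u : A ⟶ B) (v : B ⟶ C), P (u ≫ v) → P u)
    {F G H : Sp S} {f : F ⟶ G} {g : G ⟶ H}
    (hF : HasAtlas F) (hG : HasAtlas G) (hH : HasAtlas H) (hfg : LocP P (f ≫ g)) :
    LocP P f :=
  locP_of_comp hP (Q := ⊤) (fun _ _ _ u v h _ => hPQ u v h) hF hG hH hfg
    (fun _ _ _ _ _ _ _ _ => trivial)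

/-- Descent along an etale surjective (representable) morphism of the source (S9950). -/
theorem locP_of_source (hP : EtLoc P) {F' F G : Sp S} {e : F' ⟶ F} {f : F ⟶ G} (hF' : HasAtlas F')
    (hG : HasAtlas G) (he : RepWith @Etale e) (hes : RepWith @Surjective e) (h : LocP P (e ≫ f)) :
    LocP P f := by
  obtain ⟨U₀, a₀, ha₀, has₀⟩ := hF'
  obtain ⟨V, b, hb, hbs⟩ := hG
  obtain ⟨U, a, k, ha, has, hk⟩ := exists_chart_over (e ≫ f) a₀ ha₀ has₀ b hb hbs
  exact locP_of_chart hP f (a ≫ e) b k (etale_comp ha he) (surjective_comp has hes) hb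
    (by rw [Category.assoc]; exact hk) (h a b k ha hb hk)

/-- Descent along an etale surjective (representable) base change (S9949). -/
theorem locP_of_target (hP : EtLoc P) {F G F' G' : Sp S} {f : F ⟶ G} {g : G' ⟶ G}
    {g' : F' ⟶ F} {f' : F' ⟶ G'} (sq : IsPullback g' f' f g) (hF : HasAtlas F)
    (hG' : HasAtlas G') (hg : RepWith @Etale g) (hgs : RepWith @Surjective g) (h : LocP P f') :
    LocP P f := by
  obtain ⟨U₀, a₀, ha, has⟩ := hF
  obtain ⟨V', c, hc, hcs⟩ := hG'
  have hcg : RepWith @Etale (c ≫ g) := etale_comp hc hg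
  obtain ⟨U', q, p, sq', hp⟩ := exists_sq2 hcg (a₀ ≫ f)
  obtain ⟨α, h1, h2, h3, h4⟩ := exists_chart_bc' sq sq'.flip ha has hc hcs
  refine locP_of_chart hP f (α ≫ g') (c ≫ g) q (etale_comp h1 (repWith_bc' _ sq hg))
    (surjective_comp h2 (repWith_bc' _ sq hgs)) hcg ?_ (h α c q h1 hc h4)
  rw [Category.assoc, sq.w, ← Category.assoc, h4, Category.assoc]

/-- Precomposition with a representable etale morphism. -/
theorem locP_precomp {F' F G : Sp S} {e : F' ⟶ F} {f : F ⟶ G} (he : RepWith @Etale e) (h : LocP P f) :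
    LocP P (e ≫ f) := fun U V a b k ha hb w =>
  h (a ≫ e) b k (etale_comp ha he) hb (by rw [Category.assoc]; exact w)

/-- Postcomposition with an etale morphism. -/
theorem locP_postcomp (hP : EtLoc P) {F G H : Sp S} {f : F ⟶ G} {g : G ⟶ H}
    (hF : HasAtlas F) (hG : HasAtlas G) (hH : HasAtlas H) (hf : LocP P f) (hg : LocP @Etale g) :
    LocP P (f ≫ g) := by
  obtain ⟨U₀, a₀, ha₀, has₀⟩ := hF
  obtain ⟨V₀, b₀, hb₀, hbs₀⟩ := hG
  obtain ⟨W, c, hc, hcs⟩ := hH
  obtain ⟨V, b, k, hb, hbs, hk⟩ := exists_chart_over g b₀ hb₀ hbs₀ c hc hcs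
  obtain ⟨U, a, h, ha, has, hh⟩ := exists_chart_over f a₀ ha₀ has₀ b hb hbs
  refine locP_of_chart hP (f ≫ g) a c (h ≫ k) ha has hc ?_ ?_
  · rw [← Category.assoc, hh, Category.assoc, hk, Functor.map_comp, Category.assoc]
  · rw [Over.comp_left]
    exact hP.postcomp _ _ (hg b c k hb hc hk) (hf a b h ha hb hh)

theorem locP_mono {P Q : MorphismProperty Scheme.{u}} (h : P ≤ Q) {F G : Sp S} {f : F ⟶ G}
    (hf : LocP P f) : LocP Q f := fun _ _ a b k ha hb w => h _ (hf a b k ha hb w)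

theorem locP_inf_iff {P Q : MorphismProperty Scheme.{u}} {F G : Sp S} {f : F ⟶ G} :
    LocP (P ⊓ Q) f ↔ LocP P f ∧ LocP Q f :=
  ⟨fun h => ⟨fun _ _ a b k ha hb w => (h a b k ha hb w).1, fun _ _ a b k ha hb w => (h a b k ha hb w).2⟩,
    fun h _ _ a b k ha hb w => ⟨h.1 a b k ha hb w, h.2 a b k ha hb w⟩⟩

/-- `IsEtaleMor` implies `LocP @Etale`, for arbitrary sheaves. -/
theorem locP_etale_of_isEtaleMor {F G : Sp S} {f : F ⟶ G} (h : IsEtaleMor f) : LocP @Etale f := by
  intro U V a b k ha hb w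
  exact of_comp_etale (P := @Etale) (fun A B C e f he hf => inferInstance) hb (h a ha) k w.symm

/-- `LocP @Etale` implies `IsEtaleMor` for a target which is an algebraic space. -/
theorem isEtaleMor_of_locP_etale (hE : EtLoc @Etale.{u}) {F G : Sp S} {f : F ⟶ G} (hG : IsAlgSpace G)
    (h : LocP @Etale f) : IsEtaleMor f := fun _ _ hφ =>
  repWith_of_locP hE hG.hasAtlas (hG.representable_from_yon _) (locP_precomp hφ h)

end K597
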