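import Groth.Agent.AlgSp.K597.Proper

/-!
# Proper morphisms and closed subspaces proper over a base

* `isProperMor_comp`, `isProperMor_of_closed`, `isProperMor_of_surjective`, `isUnivClosedMor_of_comp`.
* `isUnivClosedMor_of_family`, `isSeparatedMor_of_family`: finite families.
-/

set_option autoImplicit false
set_option backward.isDefEq.respectTransparency false
set_option backward.isDefEq.respectTransparency.types false
universe u
open CategoryTheory CategoryTheory.Limits AlgebraicGeometry Opposite AlgSp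

namespace K597.ProperSub

open K596.Pts

variable {S : Scheme.{u}} {X Y Z P : Sp S}

theorem isProperMor_comp (hX : IsAlgSpace X) (hY : IsAlgSpace Y) (hZ : IsAlgSpace Z) {f : X ⟶ Y} {g : Y ⟶ Z}
    (hf : IsProperMor f) (hg : IsProperMor g) : IsProperMor (f ≫ g) := by
  obtain ⟨h1, ⟨h2, h3⟩, h4⟩ := hf
  obtain ⟨k1, ⟨k2, k3⟩, k4⟩ := hg
  exact ⟨K595.DiagRel.isSeparatedMor_isMultiplicative.comp_mem _ _ h1 k1,
    ⟨locP_comp etLoc_lft hX.hasAtlas hY.hasAtlas hZ.hasAtlas h2 k2,
      K596.QC.isQuasiCompactMor_comp hY hZ h3 k3⟩,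
    K596.SepSurj.isUnivClosedMor_comp hY hZ h4 k4⟩

theorem isUnivClosedMor_of_closed {f : X ⟶ Y} (h : RepWith @IsClosedImmersion f) : IsUnivClosedMor f :=
  (K596.Univ.repWith_universallyClosed_iff h.1).1
    (repWith_mono (fun _ _ f (_ : IsClosedImmersion f) => (inferInstance : UniversallyClosed f)) h)

theorem isProperMor_of_closed (hY : IsAlgSpace Y) {f : X ⟶ Y} (h : RepWith @IsClosedImmersion f) : IsProperMor f :=
  (K597.Proper.isProperMor_iff_repWith hY h.1).2
    (repWith_mono (fun _ _ f (_ : IsClosedImmersion f) => (inferInstance : IsProper f)) h)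

theorem isSeparatedMor_of_closed {f : X ⟶ Y} (h : RepWith @IsClosedImmersion f) : IsSeparatedMor f :=
  (K595.DiagBasic.isSeparatedMor_iff_repWith h.1).2
    (repWith_mono (fun _ _ f (_ : IsClosedImmersion f) => (inferInstance : IsSeparated f)) h)

theorem locP_lft_of_closed {f : X ⟶ Y} (h : RepWith @IsClosedImmersion f) : LocP @LocallyOfFiniteType f :=
  locP_of_repWith etLoc_lft.precomp
    (repWith_mono (fun _ _ f (_ : IsClosedImmersion f) => (inferInstance : LocallyOfFiniteType f)) h)

/-- The graph trick for universally closed morphisms. -/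
theorem isUnivClosedMor_of_comp (hX : IsAlgSpace X) (hY : IsAlgSpace Y) (hZ : IsAlgSpace Z) {f : X ⟶ Y} {g : Y ⟶ Z}
    (h : IsUnivClosedMor (f ≫ g)) (hg : IsSeparatedMor g) : IsUnivClosedMor f := by
  have sq := IsPullback.of_hasPullback (f ≫ g) g
  let γ : X ⟶ pullback (f ≫ g) g := pullback.lift (𝟙 X) f (Category.id_comp _)
  have hγ1 : γ ≫ pullback.fst (f ≫ g) g = 𝟙 X := pullback.lift_fst _ _ _
  have hγ2 : γ ≫ pullback.snd (f ≫ g) g = f := pullback.lift_snd _ _ _
  have hs : IsSeparatedMor (pullback.fst (f ≫ g) g) :=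
    K595.DiagRel.isSeparatedMor_isStableUnderBaseChange.of_isPullback sq.flip hg
  have hγ : RepWith @IsClosedImmersion γ := K595.DiagRel.repWith_section _ γ hγ1 hs
  have hp : IsAlgSpace (pullback (f ≫ g) g) := K613.Chart.isAlgSpace_pullback hX hY hZ _ _
  rw [← hγ2]
  exact K596.SepSurj.isUnivClosedMor_comp hp hY (isUnivClosedMor_of_closed hγ)
    (K596.ClosedQC.isUnivClosedMor_of_isPullback sq h)

/-- A space dominated by a proper one is proper. -/
theorem isProperMor_of_surjective {Z W B : Space S} (f : Z ⟶ W) (q : W ⟶ B)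
    (hs : Function.Surjective (Points.map f.hom)) (hc : IsUnivClosedMor f.hom)
    (hq : LocP @LocallyOfFiniteType q.hom) (hp : IsProperMor (f ≫ q).hom) : IsProperMor q.hom := by
  obtain ⟨h1, -, h4⟩ := hp
  have h4' : IsUnivClosedMor q.hom := K596.SepSurj.isUnivClosedMor_of_precomp hs h4
  exact ⟨(K596.SepSurj.separation_of_surjective_univClosed f (f ≫ q) q rfl hs hc).2 h1,
    ⟨hq, K596.ClosedQC.isQuasiCompactMor_of_isUnivClosedMor W.property B.property h4'⟩, h4'⟩

/-- S10760 -/
theorem isProperMor_of_range_eq {X Y Z Z' : Space S} (f : X ⟶ Y) (hf : LocP @LocallyOfFiniteType f.hom)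
    (i : Z ⟶ X) (i' : Z' ⟶ X) (hi : RepWith @IsClosedImmersion i.hom) (hi' : RepWith @IsClosedImmersion i'.hom)
    (heq : Set.range (Points.map i'.hom) ⊆ Set.range (Points.map i.hom))
    (hZ : IsProperMor (i ≫ f).hom) : IsProperMor (i' ≫ f).hom := by
  have sq := IsPullback.of_hasPullback i.hom i'.hom
  let W : Space S := ⟨pullback i.hom i'.hom, K613.Chart.isAlgSpace_pullback Z.property Z'.property X.property _ _⟩
  let a : W ⟶ Z := ⟨pullback.fst i.hom i'.hom⟩
  let b : W ⟶ Z' := ⟨pullback.snd i.hom i'.hom⟩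
  have hw : a ≫ i = b ≫ i' := ObjectProperty.hom_ext _ sq.w
  have ha : RepWith @IsClosedImmersion a.hom := MorphismProperty.of_isPullback (P := RepWith _) sq.flip hi'
  have hb : RepWith @IsClosedImmersion b.hom := MorphismProperty.of_isPullback (P := RepWith _) sq hi
  refine isProperMor_of_surjective b (i' ≫ f) ?_ (isUnivClosedMor_of_closed hb) ?_ ?_
  · intro z'
    obtain ⟨z, hz⟩ := heq ⟨z', rfl⟩
    obtain ⟨w, -, hw⟩ := exists_of_isPullback sq z z' hz
    exact ⟨w, hw⟩
  · exact locP_comp etLoc_lft Z'.property.hasAtlas X.property.hasAtlas Y.property.hasAtlas (locP_lft_of_closed hi') hf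
  · have : b ≫ i' ≫ f = a ≫ i ≫ f := by rw [← Category.assoc, ← hw, Category.assoc]
    rw [this]
    exact isProperMor_comp W.property Z.property Y.property (isProperMor_of_closed Z.property ha) hZ

/-- S10761 -/
theorem isProperMor_baseChange {X Y X' Y' Z Z' : Space S}
    (f : X ⟶ Y) (g : Y' ⟶ Y) (f' : X' ⟶ Y') (g' : X' ⟶ X)
    (hsq : IsPullback g'.hom f'.hom f.hom g.hom)
    (i : Z ⟶ X) (hZ : IsProperMor (i ≫ f).hom)
    (i' : Z' ⟶ X') (q : Z' ⟶ Z) (hsq' : IsPullback q.hom i'.hom i.hom g'.hom) :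
    IsProperMor (i' ≫ f').hom :=
  K597.Proper.isProperMor_of_isPullback Z.property Y.property Y'.property (hsq'.paste_vert hsq) hZ

/-- Finite jointly surjective families. -/
theorem isUnivClosedMor_of_family {n : ℕ} {W : Fin n → Sp S} {g : ∀ k, W k ⟶ X} {h : X ⟶ Y}
    (hs : ∀ x : Points X, ∃ k, x ∈ Set.range (Points.map (g k))) (hc : ∀ k, IsUnivClosedMor (g k ≫ h)) :
    IsUnivClosedMor h := by
  intro T Q hT t fst snd sq
  -- base changes of the `g k`
  have sqk := fun k => IsPullback.of_hasPullback (g k) fst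
  have hk : ∀ k, IsClosedMap (Points.map (pullback.snd (g k) fst ≫ snd)) := fun k =>
    hc k hT t _ _ ((sqk k).paste_vert sq)
  intro C hC
  have e : Points.map snd '' C = ⋃ k, Points.map (pullback.snd (g k) fst ≫ snd) ''
      (Points.map (pullback.snd (g k) fst) ⁻¹' C) := by
    ext z
    simp only [Set.mem_iUnion]
    constructor
    · rintro ⟨c, hc, rfl⟩
      obtain ⟨k, y, hy⟩ := hs (Points.map fst c)
      obtain ⟨w, -, hw⟩ := exists_of_isPullback (sqk k) y c hy
      exact ⟨k, w, by rw [Set.mem_preimage, hw]; exact hc, by rw [Points.map_comp, hw]⟩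
    · rintro ⟨k, w, hw, rfl⟩
      exact ⟨_, hw, (Points.map_comp _ _ _).symm⟩
  rw [e]
  exact isClosed_iUnion_of_finite fun k => hk k _ (hC.preimage (Points.continuous_map _))

theorem isSeparatedMor_of_family {n : ℕ} {X Y : Space S} {W : Fin n → Space S} (g : ∀ k, W k ⟶ X) (h : X ⟶ Y)
    (hg : ∀ k, RepWith @IsClosedImmersion (g k).hom)
    (hs : ∀ x : Points X.obj, ∃ k, x ∈ Set.range (Points.map (g k).hom)) (hc : ∀ k, IsSeparatedMor (g k ≫ h).hom) :
    IsSeparatedMor h.hom := by
  rw [K596.SepSurj.isSeparatedMor_iff_isUnivClosedMor]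
  refine isUnivClosedMor_of_family (g := fun k => (g k).hom) hs fun k => ?_
  obtain ⟨c, hc1, -, e⟩ := K596.SepSurj.universallyClosed_diagonal (g k) (g k ≫ h) h rfl (isUnivClosedMor_of_closed (hg k))
  rw [← e]
  have h2 : IsAlgSpace (pullback h.hom h.hom) :=
    K613.Chart.isAlgSpace_pullback X.property X.property Y.property _ _
  have h3 : IsAlgSpace (pullback (g k ≫ h).hom (g k ≫ h).hom) :=
    K613.Chart.isAlgSpace_pullback (W k).property (W k).property Y.property _ _
  exact K596.SepSurj.isUnivClosedMor_comp h3 h2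
    ((K596.SepSurj.isSeparatedMor_iff_isUnivClosedMor (g k ≫ h)).1 (hc k)) hc1

/-- A closed subspace whose points are covered by finitely many closed subspaces proper over `Y` is proper. -/
theorem isProperMor_of_range_subset {n : ℕ} {X Y W : Space S} (f : X ⟶ Y) (hf : LocP @LocallyOfFiniteType f.hom)
    (Z : Fin n → Space S) (i : ∀ k, Z k ⟶ X) (hi : ∀ k, RepWith @IsClosedImmersion (i k).hom)
    (hZ : ∀ k, IsProperMor (i k ≫ f).hom) (j : W ⟶ X) (hj : RepWith @IsClosedImmersion j.hom)
    (hr : Set.range (Points.map j.hom) ⊆ ⋃ k, Set.range (Points.map (i k).hom)) : IsProperMor (j ≫ f).hom := by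
  have sq := fun k => IsPullback.of_hasPullback (i k).hom j.hom
  let V : Fin n → Space S := fun k =>
    ⟨pullback (i k).hom j.hom, K613.Chart.isAlgSpace_pullback (Z k).property W.property X.property _ _⟩
  let a : ∀ k, V k ⟶ Z k := fun k => ⟨pullback.fst (i k).hom j.hom⟩
  let b : ∀ k, V k ⟶ W := fun k => ⟨pullback.snd (i k).hom j.hom⟩
  have hw : ∀ k, a k ≫ i k = b k ≫ j := fun k => ObjectProperty.hom_ext _ (sq k).w
  have ha : ∀ k, RepWith @IsClosedImmersion (a k).hom := fun k =>
    MorphismProperty.of_isPullback (P := RepWith _) (sq k).flip hj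
  have hb : ∀ k, RepWith @IsClosedImmersion (b k).hom := fun k =>
    MorphismProperty.of_isPullback (P := RepWith _) (sq k) (hi k)
  have hs : ∀ x : Points W.obj, ∃ k, x ∈ Set.range (Points.map (b k).hom) := by
    intro x
    obtain ⟨k, hk⟩ := Set.mem_iUnion.1 (hr ⟨x, rfl⟩)
    obtain ⟨z, hz⟩ := hk
    obtain ⟨w, -, hw⟩ := exists_of_isPullback (sq k) z x hz
    exact ⟨k, w, hw⟩
  have hp : ∀ k, IsProperMor (b k ≫ j ≫ f).hom := fun k => by
    have : b k ≫ j ≫ f = a k ≫ i k ≫ f := by rw [← Category.assoc, ← hw k, Category.assoc]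
    rw [this]
    exact isProperMor_comp (V k).property (Z k).property Y.property (isProperMor_of_closed (Z k).property (ha k)) (hZ k)
  have hc : IsUnivClosedMor (j ≫ f).hom :=
    isUnivClosedMor_of_family (g := fun k => (b k).hom) hs fun k => (hp k).2.2
  exact ⟨isSeparatedMor_of_family b (j ≫ f) hb hs fun k => (hp k).1,
    ⟨locP_comp etLoc_lft W.property.hasAtlas X.property.hasAtlas Y.property.hasAtlas (locP_lft_of_closed hj) hf,
      K596.ClosedQC.isQuasiCompactMor_of_isUnivClosedMor W.property Y.property hc⟩, hc⟩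

end K597.ProperSub
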