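import Mathlib.AlgebraicGeometry.Morphisms.SchemeTheoreticallyDominant
import Mathlib.AlgebraicGeometry.Morphisms.Immersion

/-!
# Scheme theoretic images and flat base change

* `ker_toImage`, `isSchDom_toImage`
* `ker_of_isPullback_flat`: `f'.ker = f.ker.comap g` for `f` quasi-compact and `g` flat.
-/

set_option autoImplicit false
universe u
open CategoryTheory CategoryTheory.Limits AlgebraicGeometry

namespace K597.FlatKer

theorem ker_toImage {X Y : Scheme.{u}} (f : X ⟶ Y) [QuasiCompact f] : f.toImage.ker = ⊥ := by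
  refine Scheme.IdealSheafData.ext_of_iSup_eq_top
    (fun U : Y.affineOpens ↦ ⟨f.imageι ⁻¹ᵁ U.1, U.2.preimage _⟩)
    (TopologicalSpace.IsOpenCover.comap (iSup_affineOpens_eq_top Y) _) fun U ↦ ?_
  simp only [Scheme.Hom.ker_apply, Scheme.IdealSheafData.ideal_bot, Pi.bot_apply]
  rw [← RingHom.injective_iff_ker_eq_bot]
  exact f.toImage_app_injective U

theorem isSchDom_toImage {X Y : Scheme.{u}} (f : X ⟶ Y) [QuasiCompact f] :
    IsSchemeTheoreticallyDominant f.toImage := ⟨ker_toImage f⟩

/-- The kernel (ideal of the scheme theoretic image) of a quasi-compact morphism commutes with flat base change. -/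
theorem ker_of_isPullback_flat {X Y X' Y' : Scheme.{u}} {g' : X' ⟶ X} {f' : X' ⟶ Y'} {f : X ⟶ Y} {g : Y' ⟶ Y}
    (sq : IsPullback g' f' f g) [QuasiCompact f] [Flat g] : f'.ker = f.ker.comap g := by
  have := isSchDom_toImage f
  -- the base change of the image
  have s1 : IsPullback (pullback.fst f.imageι g) (pullback.snd f.imageι g) f.imageι g :=
    IsPullback.of_hasPullback _ _
  have sq' : IsPullback g' f' (f.toImage ≫ f.imageι) g := by
    rw [Scheme.Hom.toImage_imageι]; exact sq
  have w : (g' ≫ f.toImage) ≫ f.imageι = f' ≫ g := by rw [Category.assoc]; exact sq'.w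
  let a : X' ⟶ pullback f.imageι g := pullback.lift (g' ≫ f.toImage) f' w
  have ha1 : a ≫ pullback.fst f.imageι g = g' ≫ f.toImage := pullback.lift_fst _ _ _
  have ha2 : a ≫ pullback.snd f.imageι g = f' := pullback.lift_snd _ _ _
  have s2 : IsPullback g' a f.toImage (pullback.fst f.imageι g) := by
    refine IsPullback.of_bot ?_ ha1.symm s1
    rw [ha2]
    exact sq'
  have hfl : Flat (pullback.fst f.imageι g) := inferInstance
  have hd : IsSchemeTheoreticallyDominant a := IsSchemeTheoreticallyDominant.of_isPullback s2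
  rw [← ha2, Scheme.Hom.ker_comp, hd.ker_eq_bot, Scheme.IdealSheafData.map_bot,
    ← Scheme.IdealSheafData.ker_subschemeι f.ker]
  have := Scheme.IdealSheafData.ker_fst_of_isClosedImmersion f.ker.subschemeι g
  rw [← this]
  have e : (pullbackSymmetry g f.ker.subschemeι).hom ≫ pullback.snd f.ker.subschemeι g =
      pullback.fst g f.ker.subschemeι := pullbackSymmetry_hom_comp_snd _ _
  rw [← e, Scheme.Hom.ker_comp_of_isIso]

end K597.FlatKer
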