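import Groth.Agent.AlgSp.K613.Mono
import Groth.Agent.AlgSp.K627.FpqcPts
import Groth.Agent.AlgSp.K596.QC2

/-!
# Universally injective morphisms of sheaves

* `surjective_diagonal_iff`: `f` is universally injective iff its diagonal is surjective.
* `injective_points`: injectivity on field valued points.
* `repWith_universallyInjective_iff`, `isUnivInjectiveMor_of_surjective`.
-/

set_option autoImplicit false
set_option backward.isDefEq.respectTransparency false
set_option backward.isDefEq.respectTransparency.types false
universe u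
open CategoryTheory CategoryTheory.Limits AlgebraicGeometry Opposite AlgSp

namespace K597.UnivInj

open K613.Chart K596.Pts

variable {S : Scheme.{u}} {F G H P X Y Z : Sp S}

theorem surjective_diagonal_of_univInj {f : X ⟶ Y} (h : IsUnivInjectiveMor f) :
    Function.Surjective (Points.map (pullback.diagonal f)) := by
  intro t
  obtain ⟨K, _, str, g, rfl⟩ := exists_fpt t
  obtain ⟨Ω, _, w, a, hab⟩ := K613.Mono.exists_of_univInj h str (g ≫ pullback.fst f f) (g ≫ pullback.snd f f)
    (by rw [Category.assoc, pullback.condition, Category.assoc])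
  refine ⟨fpt ((yon S).map a ≫ g ≫ pullback.fst f f), ?_⟩
  rw [map_fpt, fpt_eq_iff]
  refine ⟨Ω, inferInstance, w, 𝟙 _, a, ?_⟩
  rw [(yon S).map_id, Category.id_comp]
  apply pullback.hom_ext
  · simp
  · simpa using hab

theorem injective_of_surjective_diagonal {f : X ⟶ Y}
    (h : Function.Surjective (Points.map (pullback.diagonal f))) : Function.Injective (Points.map f) := by
  intro x y hxy
  obtain ⟨z, rfl, rfl⟩ := exists_of_isPullback (IsPullback.of_hasPullback f f) x y hxy
  obtain ⟨w, rfl⟩ := h z
  rw [← Points.map_comp, ← Points.map_comp, pullback.diagonal_fst, pullback.diagonal_snd]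

theorem univInj_of_surjective_diagonal {f : X ⟶ Y}
    (h : Function.Surjective (Points.map (pullback.diagonal f))) : IsUnivInjectiveMor f := by
  intro Z Z' _ g fst snd sq
  refine injective_of_surjective_diagonal ?_
  -- the diagonal of `snd` is a base change of the diagonal of `f`
  have sqd : IsPullback fst (pullback.diagonal snd) (pullback.diagonal f)
      (pullback.map snd snd f f fst fst g sq.w.symm sq.w.symm) := by
    have w : fst ≫ pullback.diagonal f = pullback.diagonal snd ≫
        (pullback.map snd snd f f fst fst g sq.w.symm sq.w.symm) := by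
      apply pullback.hom_ext <;> simp
    refine ⟨⟨w⟩, ⟨PullbackCone.IsLimit.mk _ (fun s => s.snd ≫ pullback.fst _ _) ?_ ?_ ?_⟩⟩
    · intro s
      have h1 := s.condition =≫ pullback.fst _ _
      simp at h1
      simp [h1]
    · intro s
      have h1 := s.condition =≫ pullback.fst _ _
      have h2 := s.condition =≫ pullback.snd _ _
      simp at h1 h2
      apply pullback.hom_ext
      · simp
      · rw [Category.assoc, pullback.diagonal_snd, Category.comp_id]
        refine sq.hom_ext (by rw [Category.assoc, Category.assoc, ← h1, ← h2]) ?_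
        rw [Category.assoc, pullback.condition, Category.assoc]
    · intro s m h1 h2
      rw [← h2]; simp
  exact surjective_of_isPullback sqd h

theorem surjective_diagonal_iff (f : X ⟶ Y) :
    IsUnivInjectiveMor f ↔ Function.Surjective (Points.map (pullback.diagonal f)) :=
  ⟨surjective_diagonal_of_univInj, univInj_of_surjective_diagonal⟩

/-- Field valued points of a sheaf with representable diagonal are separated by field extensions. -/
theorem eq_of_fieldExt (hX : Representable (Limits.diag X)) {K Ω : Type u} [Field K] [Field Ω]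
    {str : Spec (CommRingCat.of K) ⟶ S} {w : Spec (CommRingCat.of Ω) ⟶ S} (a : Over.mk w ⟶ Over.mk str)
    (u₁ u₂ : (yon S).obj (Over.mk str) ⟶ X) (h : (yon S).map a ≫ u₁ = (yon S).map a ≫ u₂) : u₁ = u₂ := by
  obtain ⟨E, e, he⟩ := (representable_diag_iff.1 hX) _ u₁ u₂
  have hm := he.mono
  obtain ⟨r, hr, -⟩ := he.lift _ a h
  have hi : IsIso (pullback.snd e a) := by
    have : IsSplitEpi (pullback.snd e a) := ⟨⟨⟨pullback.lift r (𝟙 _) (by simpa using hr), by simp⟩⟩⟩
    exact isIso_of_mono_of_isSplitEpi _
  have hsq := ((IsPullback.of_hasPullback e a).map (Over.forget S)).flip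
  have hP : (@Surjective ⊓ @Flat ⊓ @QuasiCompact : MorphismProperty Scheme.{u}) a.left := by
    refine ⟨⟨⟨fun x => ?_⟩, ?_⟩, ?_⟩
    · have : Subsingleton ↥(Spec (CommRingCat.of K)) := inferInstanceAs (Subsingleton (PrimeSpectrum K))
      exact ⟨(IsLocalRing.closedPoint Ω : PrimeSpectrum Ω), Subsingleton.elim (α := ↥(Spec (CommRingCat.of K))) _ _⟩
    · change Flat a.left
      obtain ⟨φ, hφ⟩ := Spec.map_surjective (R := CommRingCat.of K) (S := CommRingCat.of Ω) a.left
      rw [← hφ, HasRingHomProperty.Spec_iff (P := @Flat)]
      letI := φ.hom.toAlgebra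
      change Module.Flat K Ω
      infer_instance
    · change QuasiCompact a.left
      change QuasiCompact (Y := Spec (CommRingCat.of K)) (X := Spec (CommRingCat.of Ω)) a.left
      infer_instance
  have h2 : (MorphismProperty.isomorphisms Scheme.{u}) e.left :=
    MorphismProperty.of_isPullback_of_descendsAlong (P := MorphismProperty.isomorphisms Scheme.{u})
      (Q := (@Surjective ⊓ @Flat ⊓ @QuasiCompact : MorphismProperty Scheme.{u})) hsq hP
      (show IsIso ((Over.forget S).map (pullback.snd e a)) from inferInstance)
  have h3 : IsIso e := by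
    have : IsIso ((Over.forget S).map e) := h2
    exact isIso_of_reflects_iso e (Over.forget S)
  have := he.w
  rwa [cancel_epi] at this

theorem injective_points_of_univInj (hX : Representable (Limits.diag X)) {f : X ⟶ Y} (h : IsUnivInjectiveMor f)
    {K : Type u} [Field K] (str : Spec (CommRingCat.of K) ⟶ S) :
    Function.Injective (fun a : (yon S).obj (Over.mk str) ⟶ X => a ≫ f) := by
  intro u₁ u₂ h12
  obtain ⟨Ω, _, w, a, hab⟩ := K613.Mono.exists_of_univInj h str u₁ u₂ h12
  exact eq_of_fieldExt hX a u₁ u₂ hab

theorem surjective_diagonal_of_injective_points {f : X ⟶ Y}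
    (h : ∀ (K : Type u) [Field K] (str : Spec (CommRingCat.of K) ⟶ S),
        Function.Injective (fun a : (yon S).obj (Over.mk str) ⟶ X => a ≫ f)) :
    Function.Surjective (Points.map (pullback.diagonal f)) := by
  intro t
  obtain ⟨K, _, str, g, rfl⟩ := exists_fpt t
  have h1 : g ≫ pullback.fst f f = g ≫ pullback.snd f f := by
    apply h K str
    change (g ≫ pullback.fst f f) ≫ f = (g ≫ pullback.snd f f) ≫ f
    rw [Category.assoc, pullback.condition, Category.assoc]
  refine ⟨fpt (g ≫ pullback.fst f f), ?_⟩
  rw [map_fpt]
  congr 1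
  apply pullback.hom_ext
  · simp
  · simpa using h1

theorem injective_points_iff (hX : Representable (Limits.diag X)) (f : X ⟶ Y) :
    (∀ (K : Type u) [Field K] (str : Spec (CommRingCat.of K) ⟶ S),
        Function.Injective (fun a : (yon S).obj (Over.mk str) ⟶ X => a ≫ f)) ↔ IsUnivInjectiveMor f :=
  ⟨fun h => univInj_of_surjective_diagonal (surjective_diagonal_of_injective_points h),
    fun h K _ str => injective_points_of_univInj hX h str⟩

theorem injective_of_repWith {f : X ⟶ Y} (hf : RepWith @UniversallyInjective f) :
    Function.Injective (Points.map f) := by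
  intro x y hxy
  obtain ⟨K, _, str, g, hg⟩ := exists_fpt (Points.map f x)
  obtain ⟨V, snd, fst, sq⟩ := hf.1 g
  have hs : UniversallyInjective snd.left := hf.2 g fst snd sq
  have e : ∀ z : Points ((yon S).obj (Over.mk str)), z = fpt (𝟙 _) := by
    intro z
    obtain ⟨t, rfl⟩ := (Points.schemeHomeo (Over.mk str)).surjective z
    obtain ⟨t', ht'⟩ := (Points.schemeHomeo (Over.mk str)).surjective (fpt (𝟙 _))
    rw [← ht']
    congr 1
    exact Subsingleton.elim (α := PrimeSpectrum K) t t'
  obtain ⟨z₁, hz₁, -⟩ := exists_of_isPullback sq x (fpt (𝟙 _)) (by rw [map_fpt, Category.id_comp, hg])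
  obtain ⟨z₂, hz₂, -⟩ := exists_of_isPullback sq y (fpt (𝟙 _)) (by rw [map_fpt, Category.id_comp, hg, hxy])
  obtain ⟨v₁, rfl⟩ := (Points.schemeHomeo V).surjective z₁
  obtain ⟨v₂, rfl⟩ := (Points.schemeHomeo V).surjective z₂
  have : snd.left v₁ = snd.left v₂ := Subsingleton.elim (α := PrimeSpectrum K) _ _
  rw [← hz₁, ← hz₂, snd.left.injective this]

theorem isUnivInjectiveMor_of_repWith {f : X ⟶ Y} (hf : RepWith @UniversallyInjective f) :
    IsUnivInjectiveMor f := fun _ _ _ _ _ _ sq =>
  injective_of_repWith (MorphismProperty.of_isPullback (P := RepWith _) sq hf)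

theorem injective_left_of_points {T U : Over S} (φ : T ⟶ U) (h : Function.Injective (Points.map ((yon S).map φ))) :
    Function.Injective φ.left := by
  intro a b hab
  apply (Points.schemeHomeo T).injective
  apply h
  rw [Points.map_yon_map_apply, Points.map_yon_map_apply, hab]

theorem repWith_of_isUnivInjectiveMor {f : X ⟶ Y} (hf : Representable f) (h : IsUnivInjectiveMor f) :
    RepWith @UniversallyInjective f := by
  have e : (@UniversallyInjective : MorphismProperty Scheme.{u}) =
      (topologically (fun f => Function.Injective f)).universally := by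
    ext X Y f
    exact universallyInjective_iff f
  rw [e]
  refine K596.Univ.repWith_of_universally hf fun U V g fst snd sq => ?_
  exact injective_left_of_points snd (h (IsAlgSpace.yon_obj _) g fst _ sq)

/-- Universal injectivity descends along surjective base change. -/
theorem isUnivInjectiveMor_of_surjective {f : X ⟶ Y} {g : Z ⟶ Y} (hg : Function.Surjective (Points.map g))
    {fst : P ⟶ X} {snd : P ⟶ Z} (sq : IsPullback fst snd f g) (h : IsUnivInjectiveMor snd) :
    IsUnivInjectiveMor f := by
  rw [K627.FpqcPts.isUnivInjectiveMor_iff] at h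
  intro Z' P' _ g' fst' snd' sq' x y hxy
  -- `Z'' = Z' ×_Y Z`
  have s1 := IsPullback.of_hasPullback g' g
  have hs : Function.Surjective (Points.map (pullback.fst g' g)) := surjective_of_isPullback s1.flip hg
  obtain ⟨z, hz⟩ := hs (Points.map snd' x)
  have s2 := IsPullback.of_hasPullback snd' (pullback.fst g' g)
  have s3 := (s2.paste_horiz sq')
  rw [s1.w] at s3
  obtain ⟨c, -, s4⟩ := K596.QC.isPullback_lift_right sq s3
  have inj := K627.FpqcPts.injective_of_onAffine h s4
  obtain ⟨x', hx', hx''⟩ := exists_of_isPullback s2 x z hz.symm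
  obtain ⟨y', hy', hy''⟩ := exists_of_isPullback s2 y z (by rw [hz, hxy])
  rw [← hx', ← hy', inj (hx''.trans hy''.symm)]

end K597.UnivInj
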