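import Groth.Agent.AlgSp.K597.ProperImg
import Groth.Agent.AlgSp.K597.UnivInj
import Groth.Agent.S9965
import Groth.Agent.AlgSp.K617.FinLoc
import Groth.Agent.AlgSp.K604.SepDvr

/-!
# Cancellation for proper morphisms of algebraic spaces
-/

set_option autoImplicit false
set_option backward.isDefEq.respectTransparency false
set_option backward.isDefEq.respectTransparency.types false
universe u
open CategoryTheory CategoryTheory.Limits AlgebraicGeometry Opposite AlgSp

namespace K597.ProperCancel

open K596.Pts K597.ProperSub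

variable {S : Scheme.{u}} {X Y Z : Sp S}

theorem isSeparatedMor_of_comp {f : X ⟶ Y} {g : Y ⟶ Z} (h : IsSeparatedMor (f ≫ g)) : IsSeparatedMor f :=
  K613.Diag.repWith_diagonal_of_comp h

theorem isQuasiSeparatedMor_of_comp {f : X ⟶ Y} {g : Y ⟶ Z} (h : IsQuasiSeparatedMor (f ≫ g)) :
    IsQuasiSeparatedMor f :=
  K613.Diag.repWith_diagonal_of_comp h

theorem locP_lft_of_comp (hX : IsAlgSpace X) (hY : IsAlgSpace Y) (hZ : IsAlgSpace Z) {f : X ⟶ Y} {g : Y ⟶ Z}
    (h : LocP @LocallyOfFiniteType (f ≫ g)) : LocP @LocallyOfFiniteType f :=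
  locP_of_comp' etLoc_lft (fun _ _ _ u v (_ : LocallyOfFiniteType (u ≫ v)) => locallyOfFiniteType_of_comp u v)
    hX.hasAtlas hY.hasAtlas hZ.hasAtlas h

/-- `f ≫ g` proper and `g` separated imply `f` proper. -/
theorem isProperMor_of_comp (hX : IsAlgSpace X) (hY : IsAlgSpace Y) (hZ : IsAlgSpace Z) {f : X ⟶ Y} {g : Y ⟶ Z}
    (h : IsProperMor (f ≫ g)) (hg : IsSeparatedMor g) : IsProperMor f := by
  have h3 := isUnivClosedMor_of_comp hX hY hZ h.2.2 hg
  exact ⟨isSeparatedMor_of_comp h.1, ⟨locP_lft_of_comp hX hY hZ h.2.1.1,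
    K596.ClosedQC.isQuasiCompactMor_of_isUnivClosedMor hX hY h3⟩, h3⟩

/-- The diagonal of a separated morphism is proper. -/
theorem isSeparatedMor_iff_isProperMor {X Y : Space S} (f : X ⟶ Y) :
    IsSeparatedMor f.hom ↔ IsProperMor (pullback.diagonal f.hom) := by
  constructor
  · intro h
    exact isProperMor_of_closed (K613.Chart.isAlgSpace_pullback X.property X.property Y.property _ _) h
  · intro h
    exact (K596.SepSurj.isSeparatedMor_iff_isUnivClosedMor f).2 h.2.2

/-- The scheme theoretic image of a proper space. -/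
theorem surjective_onto_schImage {X Y Z B : Space S} (h : X ⟶ Y) (f : X ⟶ B)
    (g : Y ⟶ B) (comm : h ≫ g = f) (hf : IsUnivClosedMor f.hom) (hg : IsSeparatedMor g.hom)
    (i : Z ⟶ Y) (hZ : IsSchImage h.hom i.hom) (h' : X ⟶ Z) (fac : h' ≫ i = h) :
    IsSurjectiveMor h'.hom := by
  subst comm
  have hc : IsUnivClosedMor h.hom := isUnivClosedMor_of_comp (g := g.hom) X.property Y.property B.property hf hg
  have hq : IsQuasiCompactMor h.hom := K596.ClosedQC.isQuasiCompactMor_of_isUnivClosedMor X.property Y.property hc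
  have hr := (Groth.Agent.S9965.result h i hq hZ).2
  rw [(K597.ProperImg.isClosed_range_of_univClosed hc).closure_eq] at hr
  intro z
  obtain ⟨x, hx⟩ := hr ⟨z, rfl⟩
  refine ⟨x, ?_⟩
  have hinj : Function.Injective (Points.map i.hom) := K597.UnivInj.injective_of_repWith
    (repWith_mono (fun _ _ f (_ : IsClosedImmersion f) => (inferInstance : UniversallyInjective f)) hZ.1)
  apply hinj
  rw [← hx, ← Points.map_comp]
  exact congrArg (fun k : X ⟶ Y => Points.map k.hom x) fac

end K597.ProperCancel
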