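import Groth.Agent.AlgSp.K597.ProperSub
import Groth.Agent.AlgSp.K598.Red

/-!
# Images of closed subspaces proper over a base

Stated relative to a closed subspace with a given closed set of points.
-/

set_option autoImplicit false
set_option backward.isDefEq.respectTransparency false
set_option backward.isDefEq.respectTransparency.types false
universe u
open CategoryTheory CategoryTheory.Limits AlgebraicGeometry Opposite AlgSp

namespace K597.ProperImg

open K596.Pts K597.ProperSub

variable {S : Scheme.{u}}

/-- The image of a closed subspace proper over `B` under a universally closed (on the subspace) morphism. -/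
theorem isProperMor_image {Y B Z Z' : Space S} (b : Y ⟶ B) (hb : LocP @LocallyOfFiniteType b.hom)
    (h : Z ⟶ Y) (hc : IsUnivClosedMor h.hom) (hZ : IsProperMor (h ≫ b).hom) (i' : Z' ⟶ Y)
    (hi' : RepWith @IsClosedImmersion i'.hom) (hr : Set.range (Points.map i'.hom) = Set.range (Points.map h.hom)) :
    IsProperMor (i' ≫ b).hom := by
  have sq := IsPullback.of_hasPullback h.hom i'.hom
  let W : Space S := ⟨pullback h.hom i'.hom, K613.Chart.isAlgSpace_pullback Z.property Z'.property Y.property _ _⟩
  let p : W ⟶ Z := ⟨pullback.fst h.hom i'.hom⟩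
  let q : W ⟶ Z' := ⟨pullback.snd h.hom i'.hom⟩
  have hw : p ≫ h = q ≫ i' := ObjectProperty.hom_ext _ sq.w
  have hp : RepWith @IsClosedImmersion p.hom := MorphismProperty.of_isPullback (P := RepWith _) sq.flip hi'
  have hq : IsUnivClosedMor q.hom := K596.ClosedQC.isUnivClosedMor_of_isPullback sq hc
  refine isProperMor_of_surjective q (i' ≫ b) ?_ hq ?_ ?_
  · intro z'
    obtain ⟨z, hz⟩ := hr.le ⟨z', rfl⟩
    obtain ⟨w, -, hw⟩ := exists_of_isPullback sq z z' hz
    exact ⟨w, hw⟩
  · exact locP_comp etLoc_lft Z'.property.hasAtlas Y.property.hasAtlas B.property.hasAtlas (locP_lft_of_closed hi') hb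
  · have : q ≫ i' ≫ b = p ≫ h ≫ b := by rw [← Category.assoc, ← hw, Category.assoc]
    rw [this]
    exact isProperMor_comp W.property Z.property B.property (isProperMor_of_closed Z.property hp) hZ

theorem isClosed_range_of_univClosed {X Y : Space S} {h : X ⟶ Y} (hc : IsUnivClosedMor h.hom) :
    IsClosed (Set.range (Points.map h.hom)) := by
  have h1 : IsClosedMap (Points.map h.hom) := hc Y.property (𝟙 _) (𝟙 _) h.hom (IsPullback.of_horiz_isIso ⟨by simp⟩)
  exact h1.isClosed_range

/-- The image of a closed subspace proper over `B`, when it is closed. -/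
theorem exists_image {X Y B Z : Space S} (a : X ⟶ B) (b : Y ⟶ B) (f : X ⟶ Y) (hcomm : f ≫ b = a)
    (hb : LocP @LocallyOfFiniteType b.hom) (i : Z ⟶ X) (hc : IsUnivClosedMor (i ≫ f).hom)
    (hZ : IsProperMor (i ≫ a).hom) :
    IsClosed (Points.map f.hom '' Set.range (Points.map i.hom)) ∧
      ∃ (Z' : Space S) (i' : Z' ⟶ Y), RepWith @IsClosedImmersion i'.hom ∧
        Set.range (Points.map i'.hom) = Points.map f.hom '' Set.range (Points.map i.hom) ∧
        IsProperMor (i' ≫ b).hom := by
  have e : Points.map f.hom '' Set.range (Points.map i.hom) = Set.range (Points.map (i ≫ f).hom) := by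
    rw [← Set.range_comp]
    congr 1
    ext x
    exact (Points.map_comp _ _ _).symm
  have hcl := isClosed_range_of_univClosed hc
  rw [e]
  refine ⟨hcl, ?_⟩
  obtain ⟨Z', i', hZ', hi'⟩ := K598.Red.exists_isRedInduced Y.property _ hcl
  refine ⟨⟨Z', hZ'⟩, ⟨i'⟩, hi'.1, hi'.2.1, ?_⟩
  refine isProperMor_image (Z := Z) (Z' := ⟨Z', hZ'⟩) b hb (i ≫ f) hc ?_ ⟨i'⟩ hi'.1 hi'.2.1
  rw [Category.assoc, hcomm]
  exact hZ

end K597.ProperImg
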