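import Groth.Agent.AlgSp.K594.Bootstrap
import Groth.Agent.AlgSp.K606.PshBasic

/-!
# Etale sheaves with a representable etale surjective map from a scheme are fppf sheaves

* `isAlgSpaceP_of_etale`: an etale sheaf with a relatively representable etale surjective map from a scheme is an
  algebraic space (in particular an fppf sheaf).
-/

set_option autoImplicit false
set_option backward.isDefEq.respectTransparency false
set_option backward.isDefEq.respectTransparency.types false
universe u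
open CategoryTheory CategoryTheory.Limits AlgebraicGeometry Opposite AlgSp

namespace K597.EtSheaf

open K594.Cover K606.PshBasic

variable {S : Scheme.{u}} {F : PSp S}

theorem et_mem {T T' : Over S} (g : T' ⟶ T) [Etale g.left] [Surjective g.left] :
    Sieve.ofArrows (fun _ : PUnit.{u + 1} => T') (fun _ => g) ∈ QuotSh.J Scheme.etalePrecoverage S T := by
  rw [GrothendieckTopology.mem_over_iff, Sieve.overEquiv_ofArrows]
  refine Precoverage.generate_mem_toGrothendieck ?_
  change _ ∈ Scheme.precoverage _ T.left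
  rw [Scheme.ofArrows_mem_precoverage_iff]
  refine ⟨fun t => ?_, fun i => inferInstance⟩
  obtain ⟨y, hy⟩ := g.left.surjective t
  exact ⟨PUnit.unit, y, hy⟩

theorem et_glue (h1 : Presheaf.IsSheaf (QuotSh.J Scheme.etalePrecoverage S) F) {T T' : Over S} (g : T' ⟶ T)
    [Etale g.left] [Surjective g.left] (x : F.obj (op T'))
    (hx : ∀ (Z : Over S) (a b : Z ⟶ T'), a ≫ g = b ≫ g → F.map a.op x = F.map b.op x) :
    ∃! t : F.obj (op T), F.map g.op t = x := by
  rw [isSheaf_iff_isSheaf_of_type] at h1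
  have h2 := h1 _ (et_mem g)
  rw [Sieve.ofArrows, ← Presieve.isSheafFor_iff_generate, Presieve.isSheafFor_arrows_iff] at h2
  obtain ⟨t, ht, hu⟩ := h2 (fun _ => x) (fun _ _ Z a b hab => hx Z a b hab)
  exact ⟨t, ht PUnit.unit, fun y hy => hu y fun _ => hy⟩

theorem et_ext (h1 : Presheaf.IsSheaf (QuotSh.J Scheme.etalePrecoverage S) F) {T T' : Over S} (g : T' ⟶ T)
    [Etale g.left] [Surjective g.left] {x y : F.obj (op T)} (hx : F.map g.op x = F.map g.op y) : x = y := by
  obtain ⟨t, ht, hu⟩ := et_glue h1 g (F.map g.op y) (fun Z a b hab => by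
    rw [← Functor.map_comp_apply, ← Functor.map_comp_apply, ← op_comp, ← op_comp, hab])
  rw [hu x hx, hu y rfl]

theorem map_comp' {T T' T'' : Over S} (g : T' ⟶ T) (h : T'' ⟶ T') (x : F.obj (op T)) :
    F.map (h ≫ g).op x = F.map h.op (F.map g.op x) := by
  rw [op_comp, F.map_comp]; rfl

theorem map_id' {T : Over S} (x : F.obj (op T)) : F.map (𝟙 T).op x = x := by
  rw [op_id, F.map_id]; rfl

variable {U : Over S}

/-- `s ∈ F(U)` is a relatively representable etale surjective section. -/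
def EtSec (s : F.obj (op U)) : Prop :=
  ∀ (T : Over S) (x : F.obj (op T)), ∃ (V : Over S) (g : V ⟶ T) (v : V ⟶ U), Etale g.left ∧ Surjective g.left ∧
    F.map v.op s = F.map g.op x ∧
    (∀ (Z : Over S) (a b : Z ⟶ V), a ≫ g = b ≫ g → a ≫ v = b ≫ v → a = b) ∧
    ∀ (Z : Over S) (t : Z ⟶ T) (w : Z ⟶ U), F.map w.op s = F.map t.op x → ∃ k : Z ⟶ V, k ≫ g = t ∧ k ≫ v = w

theorem etSec_of_relative (p : (pyon S).obj U ⟶ F)
    (h3 : (MorphismProperty.inverseImage @Etale (Over.forget S)).relative (pyon S) p ∧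
      (MorphismProperty.inverseImage @Surjective (Over.forget S)).relative (pyon S) p) :
    EtSec (uliftYonedaEquiv.{u + 1} p) := by
  intro T x
  obtain ⟨V, g, fst, sq⟩ := h3.1.rep (ofSect x)
  obtain ⟨v, rfl⟩ := (pyon S).map_surjective fst
  have e : ∀ {Z : Over S} (w : Z ⟶ U), p.app (op Z) ⟨w⟩ = F.map w.op (uliftYonedaEquiv.{u + 1} p) := fun w => by
    conv_lhs => rw [← uliftYonedaEquiv.{u + 1}.symm_apply_apply p]
    exact ofSect_app _ w
  obtain ⟨h0, h1, h2⟩ := (isPullback_iff_app _ _ _ _).1 sq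
  refine ⟨V, g, v, h3.1.property _ _ _ sq, h3.2.property _ _ _ sq, ?_, ?_, ?_⟩
  · have := h0 V ⟨𝟙 V⟩
    rw [← e, ← ofSect_app]
    simpa using this
  · intro Z a b hg hv
    have := h1 Z ⟨a⟩ ⟨b⟩ (congrArg ULift.up hv) (congrArg ULift.up hg)
    exact congrArg ULift.down this
  · intro Z t w hw
    obtain ⟨⟨k⟩, hk1, hk2⟩ := h2 Z ⟨w⟩ ⟨t⟩ (by rw [e, ofSect_app, hw])
    exact ⟨k, congrArg ULift.down hk2, congrArg ULift.down hk1⟩

variable (F) in
/-- the fppf sheafification -/
noncomputable abbrev Fa : Sp S := (presheafToSheaf (J S) (Type (u + 1))).obj F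

variable (F) in
noncomputable abbrev η : F ⟶ (Fa F).obj := toSheafify (J S) F

theorem η_map {T T' : Over S} (g : T' ⟶ T) (x : F.obj (op T)) :
    (η F).app (op T') (F.map g.op x) = (Fa F).obj.map g.op ((η F).app (op T) x) :=
  NatTrans.naturality_apply (η F) g.op x

/-- Injectivity of the unit. -/
theorem injective_η (h1 : Presheaf.IsSheaf (QuotSh.J Scheme.etalePrecoverage S) F) {s : F.obj (op U)} (hs : EtSec s)
    {T : Over S} (x y : F.obj (op T)) (h : (η F).app (op T) x = (η F).app (op T) y) : x = y := by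
  obtain ⟨V, g, a, hg1, hg2, ha, -, -⟩ := hs T x
  apply et_ext h1 g
  obtain ⟨V', g', b, hg1', hg2', hb, -, -⟩ := hs V (F.map g.op y)
  apply et_ext h1 g'
  rw [← ha, ← hb, ← map_comp']
  -- now `a' = g' ≫ a` and `b`
  obtain ⟨W, q, c, -, -, hc, hinj, hlift⟩ := hs V' (F.map (g' ≫ a).op s)
  have h' : (η F).app (op V') (F.map (g' ≫ a).op s) = (η F).app (op V') (F.map b.op s) := by
    rw [map_comp', ha, hb, η_map, η_map, η_map, η_map, h]
  obtain ⟨κ, Z, z, hz, hR⟩ := exists_fam_of_mem (Presheaf.equalizerSieve_mem (J S) (η F) _ _ h')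
  have hR' : ∀ k, F.map (z k).op (F.map (g' ≫ a).op s) = F.map (z k).op (F.map b.op s) := fun k => hR k
  have hw : ∀ k, ∃ w : Z k ⟶ W, w ≫ q = z k ∧ w ≫ c = z k ≫ b := fun k =>
    hlift _ (z k) (z k ≫ b) (by rw [hR', map_comp'])
  choose w hw1 hw2 using hw
  obtain ⟨⟨t⟩, ht, -⟩ := hz.glue ((yon S).obj W) (fun k => ⟨w k⟩) (fun i j Z a b hab => by
    refine congrArg ULift.up (hinj _ _ _ ?_ ?_)
    · change (a ≫ w i) ≫ q = (b ≫ w j) ≫ q
      rw [Category.assoc, Category.assoc, hw1, hw1, hab]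
    · change (a ≫ w i) ≫ c = (b ≫ w j) ≫ c
      rw [Category.assoc, Category.assoc, hw2, hw2, reassoc_of% hab])
  have ht' : ∀ k, z k ≫ t = w k := fun k => congrArg ULift.down (ht k)
  have e1 : t ≫ q = 𝟙 V' := by
    have := hz.ext ((yon S).obj V') (a := ⟨t ≫ q⟩) (b := ⟨𝟙 V'⟩) (fun k => by
      refine congrArg ULift.up ?_
      change z k ≫ t ≫ q = z k ≫ 𝟙 V'
      rw [← Category.assoc, ht', hw1, Category.comp_id])
    exact congrArg ULift.down this
  have e2 : t ≫ c = b := by
    have := hz.ext ((yon S).obj U) (a := ⟨t ≫ c⟩) (b := ⟨b⟩) (fun k => by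
      refine congrArg ULift.up ?_
      change z k ≫ t ≫ c = z k ≫ b
      rw [← Category.assoc, ht', hw2])
    exact congrArg ULift.down this
  have := congrArg (F.map t.op) hc
  rw [← map_comp', e2, ← map_comp', e1, map_id'] at this
  exact this.symm

/-- The section `s` of the sheafification. -/
noncomputable def qa (s : F.obj (op U)) : (yon S).obj U ⟶ Fa F := K594.Elem.secEquiv.symm ((η F).app (op U) s)

theorem qa_app (s : F.obj (op U)) {T : Over S} (w : T ⟶ U) :
    (qa s).hom.app (op T) ⟨w⟩ = (η F).app (op T) (F.map w.op s) := by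
  rw [qa, K594.Elem.yonEquiv_symm_apply, η_map]

theorem isLocallySurjective_qa {s : F.obj (op U)} (hs : EtSec s) : Sheaf.IsLocallySurjective (qa s) := by
  constructor
  intro T y
  have h3 : Presheaf.IsLocallySurjective (J S) (η F) := inferInstance
  refine (J S).transitive (h3.imageSieve_mem y) _ ?_
  intro Z z hz
  obtain ⟨x, hx⟩ := hz
  obtain ⟨V, g, a, hg1, hg2, ha, -, -⟩ := hs Z x
  have hm : Sieve.ofArrows (fun _ : PUnit.{u + 1} => V) (fun _ => g) ∈ J S Z :=
    Cov.fam (g := g) ⟨inferInstance, inferInstance, hg2⟩ |>.mem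
  refine (J S).superset_covering ?_ hm
  rw [Sieve.ofArrows, Sieve.generate_le_iff]
  rintro _ _ ⟨⟩
  refine ⟨⟨a⟩, ?_⟩
  have e := qa_app s a
  refine e.trans ?_
  rw [ha, η_map, hx]
  exact (K594.Elem.map_comp_apply (Fa F) z g y).symm

theorem isAlgSpace_Fa (h1 : Presheaf.IsSheaf (QuotSh.J Scheme.etalePrecoverage S) F) {s : F.obj (op U)} (hs : EtSec s) :
    IsAlgSpace (Fa F) ∧ RepWith @Etale (qa s) ∧ RepWith @Surjective (qa s) := by
  obtain ⟨R, t, r, ht1, ht2, hw, hinj, hlift⟩ := hs U s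
  obtain ⟨R', t', r', hr1, hr2, hw', hinj', hlift'⟩ := hs U s
  have := isLocallySurjective_qa hs
  have sq : IsPullback ((yon S).map r) ((yon S).map t) (qa s) (qa s) := by
    rw [K594.Elem.isPullback_iff]
    refine ⟨?_, ?_, ?_⟩
    · apply K594.Elem.hom_ext
      rintro T ⟨a⟩
      change (qa s).hom.app (op T) ⟨a ≫ r⟩ = (qa s).hom.app (op T) ⟨a ≫ t⟩
      rw [qa_app, qa_app, map_comp', hw, ← map_comp']
    · rintro T ⟨a⟩ ⟨b⟩ h h'
      exact congrArg ULift.up (hinj _ _ _ (congrArg ULift.down h') (congrArg ULift.down h))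
    · rintro T ⟨x⟩ ⟨y⟩ h
      rw [qa_app, qa_app] at h
      obtain ⟨k, hk1, hk2⟩ := hlift T y x (injective_η h1 hs _ _ h)
      exact ⟨⟨k⟩, congrArg ULift.up hk2, congrArg ULift.up hk1⟩
  have hr : Etale r.left ∧ Surjective r.left := by
    -- `r` is the other projection: by symmetry
    obtain ⟨k, hk1, hk2⟩ := hlift' R r t (by rw [hw])
    obtain ⟨l, hl1, hl2⟩ := hlift R' r' t' (by rw [hw'])
    have e1 : k ≫ l = 𝟙 R := hinj _ _ _ (by rw [Category.assoc, hl1, hk2, Category.id_comp])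
      (by rw [Category.assoc, hl2, hk1, Category.id_comp])
    have e2 : l ≫ k = 𝟙 R' := hinj' _ _ _ (by rw [Category.assoc, hk1, hl2, Category.id_comp])
      (by rw [Category.assoc, hk2, hl1, Category.id_comp])
    have : IsIso k := ⟨l, e1, e2⟩
    have : IsIso k.left := inferInstanceAs (IsIso ((Over.forget S).map k))
    have e3 : r.left = k.left ≫ t'.left := by rw [← hk1, Over.comp_left]
    rw [e3]
    exact ⟨inferInstance, inferInstance⟩
  exact K594.Bootstrap.isAlgSpace_of_kernelPair (qa s) sq ht1 hr.1 ht2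

theorem bijective_η (h1 : Presheaf.IsSheaf (QuotSh.J Scheme.etalePrecoverage S) F) {s : F.obj (op U)} (hs : EtSec s)
    (T : Over S) : Function.Bijective ((η F).app (op T)) := by
  refine ⟨fun x y h => injective_η h1 hs x y h, fun y => ?_⟩
  obtain ⟨-, he, hsur⟩ := isAlgSpace_Fa h1 hs
  obtain ⟨V, g, k, sq⟩ := he.1 (K594.Elem.secEquiv.symm y)
  obtain ⟨v, rfl⟩ := (yon S).map_surjective k
  have hg1 : Etale g.left := he.2 _ _ _ sq
  have hg2 : Surjective g.left := hsur.2 _ _ _ sq
  have e : (η F).app (op V) (F.map v.op s) = (Fa F).obj.map g.op y := by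
    have := congrArg (fun k : (yon S).obj V ⟶ Fa F => k.hom.app (op V) ⟨𝟙 V⟩) sq.w
    change (qa s).hom.app (op V) ⟨𝟙 V ≫ v⟩ = (K594.Elem.secEquiv.symm y).hom.app (op V) ⟨𝟙 V ≫ g⟩ at this
    rwa [Category.id_comp, Category.id_comp, qa_app, K594.Elem.yonEquiv_symm_apply] at this
  obtain ⟨t, ht, -⟩ := et_glue h1 g (F.map v.op s) (fun Z a b hab => by
    apply injective_η h1 hs
    rw [η_map a, η_map b, e, ← K594.Elem.map_comp_apply, ← K594.Elem.map_comp_apply, hab])
  refine ⟨t, ?_⟩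
  refine Cov.ext (g := g) ⟨inferInstance, inferInstance, hg2⟩ (Fa F) ?_
  rw [← η_map, ht, e]

theorem isIso_η (h1 : Presheaf.IsSheaf (QuotSh.J Scheme.etalePrecoverage S) F) {s : F.obj (op U)} (hs : EtSec s) :
    IsIso (η F) := by
  rw [NatTrans.isIso_iff_isIso_app]
  rintro ⟨T⟩
  rw [isIso_iff_bijective]
  exact bijective_η h1 hs T

theorem isAlgSpaceP_of_etSec (h1 : Presheaf.IsSheaf (QuotSh.J Scheme.etalePrecoverage S) F) {s : F.obj (op U)}
    (hs : EtSec s) : IsAlgSpaceP F := by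
  have := isIso_η h1 hs
  exact ((isAlgSpaceP_obj_iff (Fa F)).2 (isAlgSpace_Fa h1 hs).1).of_iso (asIso (η F)).symm

/-- An etale sheaf with a relatively representable etale surjective map from a scheme is an algebraic space. -/
theorem isAlgSpaceP_of_etale (h1 : Presheaf.IsSheaf (QuotSh.J Scheme.etalePrecoverage S) F) (p : (pyon S).obj U ⟶ F)
    (h3 : (MorphismProperty.inverseImage @Etale (Over.forget S)).relative (pyon S) p ∧
      (MorphismProperty.inverseImage @Surjective (Over.forget S)).relative (pyon S) p) : IsAlgSpaceP F :=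
  isAlgSpaceP_of_etSec h1 (etSec_of_relative p h3)

end K597.EtSheaf
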