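import Groth.Agent.AlgSp.K597.EtSheaf
import Groth.Agent.AlgSp.K606.Boot2
import Groth.Agent.S10259

/-!
# Etale sheaves with an etale surjective map from an algebraic space
-/

set_option autoImplicit false
set_option backward.isDefEq.respectTransparency false
set_option backward.isDefEq.respectTransparency.types false
universe u
open CategoryTheory CategoryTheory.Limits AlgebraicGeometry Opposite AlgSp

namespace K597.EtSheaf

open K594.Cover K606.PshBasic

variable {S : Scheme.{u}} {F : PSp S}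

theorem isEtaleMor_comp' {X Y Z : Sp S} {f : X ⟶ Y} {g : Y ⟶ Z} (hf : RepWith @Etale f) (hg : IsEtaleMor g) :
    IsEtaleMor (f ≫ g) := fun T φ hφ => by
  rw [← Category.assoc]
  exact hg _ (K597.etale_comp hφ hf)

theorem repBySpWith_atlas {X : Sp S} (hX : IsAlgSpace X) {p : X.obj ⟶ F} {V : Over S} (a : (yon S).obj V ⟶ X)
    (ha : RepWith @Etale a) (has : RepWith @Surjective a) (h : RepBySpWith (IsSurjectiveMor ⊓ IsEtaleMor) p) :
    RepBySpWith (IsSurjectiveMor ⊓ IsEtaleMor) (a.hom ≫ p) := by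
  intro U ξ F' fst snd sq
  have sq₁ := IsPullback.of_hasPullback p ξ
  obtain ⟨hE, hEA, hEs, hEe⟩ := h ξ _ _ sq₁
  have sq₂ : IsPullback fst (sq₁.lift (fst ≫ a.hom) snd (by rw [Category.assoc, sq.w])) a.hom (pullback.fst p ξ) := by
    refine IsPullback.of_bot ?_ (by simp) sq₁
    simpa using sq
  have hF' : Presheaf.IsSheaf (J S) F' :=
    isSheaf_of_isPullback (F := (yon S).obj V) (G := X) (H := ⟨pullback p ξ, hE⟩) sq₂
  let fst' : (⟨F', hF'⟩ : Sp S) ⟶ (yon S).obj V := ObjectProperty.homMk fst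
  let l' : (⟨F', hF'⟩ : Sp S) ⟶ ⟨pullback p ξ, hE⟩ :=
    ObjectProperty.homMk (sq₁.lift (fst ≫ a.hom) snd (by rw [Category.assoc, sq.w]))
  let fE : (⟨pullback p ξ, hE⟩ : Sp S) ⟶ X := ObjectProperty.homMk (pullback.fst p ξ)
  let sE : (⟨pullback p ξ, hE⟩ : Sp S) ⟶ (yon S).obj U := ObjectProperty.homMk (pullback.snd p ξ)
  have sq₃ : IsPullback fst' l' a fE := IsPullback.of_map_of_faithful (sheafToPresheaf (J S) (Type (u + 1))) sq₂
  have h1 : RepWith @Etale l' := MorphismProperty.of_isPullback (P := RepWith @Etale) sq₃ ha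
  have h2 : RepWith @Surjective l' := MorphismProperty.of_isPullback (P := RepWith @Surjective) sq₃ has
  have e : (ObjectProperty.homMk snd : (⟨F', hF'⟩ : Sp S) ⟶ (yon S).obj U) = l' ≫ sE := by
    apply ObjectProperty.hom_ext
    exact (sq₁.lift_snd _ _ _).symm
  refine ⟨hF', ?_, ?_⟩
  · exact K606.RepBySp.isAlgSpace_of_isPullback_of_diag (IsAlgSpace.yon_obj V) hEA hX.diag sq₃
  · rw [e]
    refine ⟨?_, isEtaleMor_comp' h1 hEe⟩
    intro y
    obtain ⟨z, rfl⟩ := hEs y
    obtain ⟨w, rfl⟩ := K596.Pts.surjective_of_repWith h2 z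
    exact ⟨w, Points.map_comp _ _ _⟩

theorem sepLqfSch (S : Scheme.{u}) : K606.SepLqf.SepLqfSch S := by
  intro T X f h1 h2
  exact Groth.Agent.S10259.result T X f h1 h2

theorem relative_of_repBySpWith {U : Over S} (p : (pyon S).obj U ⟶ F)
    (h : RepBySpWith (IsSurjectiveMor ⊓ IsEtaleMor) p) :
    (MorphismProperty.inverseImage @Etale (Over.forget S)).relative (pyon S) p ∧
      (MorphismProperty.inverseImage @Surjective (Over.forget S)).relative (pyon S) p := by
  have hr : (pyon S).relativelyRepresentable p := by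
    refine K606.Boot2.relativelyRepresentable_of_lft (sepLqfSch S) p fun U ξ F' fst snd sq => ?_
    obtain ⟨h0, h1, -, h3⟩ := h ξ fst snd sq
    exact ⟨h0, h1, K606.Boot.locP_lft_of_etale h3⟩
  have key : ∀ (T V : Over S) (g : (pyon S).obj T ⟶ F) (fst : (pyon S).obj V ⟶ (pyon S).obj U) (snd : V ⟶ T),
      IsPullback fst ((pyon S).map snd) p g → Etale snd.left ∧ Surjective snd.left := by
    intro T V g fst snd sq
    obtain ⟨h0, -, h2, h3⟩ := h g fst _ sq
    constructor
    · exact (isEtaleMor_yon_map_iff snd).1 h3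
    · exact ⟨(K609.Points.surjective_map_yon_map_iff snd).1 h2⟩
  exact ⟨⟨hr, fun T V g fst snd sq => (key _ _ g fst snd sq).1⟩, ⟨hr, fun T V g fst snd sq => (key _ _ g fst snd sq).2⟩⟩

end K597.EtSheaf
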