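import Groth.Agent.Sga3B.RepDescent5
import Groth.Agent.AlgSp.K594.Cover

/-!
# Etale descent of representability for morphisms of fppf sheaves

* `exists_isRep_of_etale`: let `f : F ⟶ G` in `Sp S` and `y ∈ G(U)`.  If every point of `U` is in the image of an etale
  `v : V ⟶ U` such that the pullback of `f` along `y|_V` is represented by a scheme all of whose quasi-compact opens
  are quasi-affine, then the pullback of `f` along `y` is represented by a scheme.
-/

set_option autoImplicit false
set_option backward.isDefEq.respectTransparency false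
set_option backward.isDefEq.respectTransparency.types false
universe u
open CategoryTheory CategoryTheory.Limits AlgebraicGeometry Opposite AlgSp

namespace K597.FibF

open K594.Elem K594.Cover

variable {S : Scheme.{u}} {F G : Sp S} (f : F ⟶ G)

/-- a scheme over `U`, as a scheme over `S` -/
abbrev ov (U : Over S) (Z : Over U.left) : Over S := (Over.map U.hom).obj Z

/-- the structure morphism -/
abbrev str (U : Over S) (Z : Over U.left) : ov U Z ⟶ U := Over.homMk Z.hom rfl

theorem ovMap_str {U : Over S} {Z Z' : Over U.left} (g : Z' ⟶ Z) :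
    (Over.map U.hom).map g ≫ str U Z = str U Z' := by
  ext1
  exact Over.w g

/-- The fibre functor of `f` over a section `y` of `G` over `U`, as a functor on schemes over `U`. -/
def fib {U : Over S} (y : G.obj.obj (op U)) : (Over U.left)ᵒᵖ ⥤ Type (u + 1) where
  obj Z := {s : F.obj.obj (op (ov U Z.unop)) // f.hom.app _ s = G.obj.map (str U Z.unop).op y}
  map {Z Z'} g := ↾ fun s => ⟨F.obj.map ((Over.map U.hom).map g.unop).op s.1, by
    rw [app_map, s.2, ← map_comp_apply, ovMap_str]⟩
  map_id Z := by
    ext s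
    exact (map_eq_of_eq F ((Over.map U.hom).map_id _) s.1).trans (map_id_apply F s.1)
  map_comp {Z Z' Z''} g h := by
    ext s
    exact (map_eq_of_eq F ((Over.map U.hom).map_comp _ _) s.1).trans (map_comp_apply F _ _ s.1)

@[simp] theorem fib_map_val {U : Over S} (y : G.obj.obj (op U)) {Z Z' : Over U.left} (g : Z' ⟶ Z)
    (s : (fib f y).obj (op Z)) :
    ((fib f y).map g.op s).1 = F.obj.map ((Over.map U.hom).map g).op s.1 := rfl

/-- morphisms over `U` as morphisms over `S` -/
def toOv {U V : Over S} (v : V ⟶ U) {Z : Over U.left} (k : Z ⟶ Over.mk v.left) : ov U Z ⟶ V :=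
  Over.homMk k.left (by
    have h1 : k.left ≫ v.left = Z.hom := Over.w k
    have h2 := Over.w v
    change k.left ≫ V.hom = Z.hom ≫ U.hom
    rw [← h1, Category.assoc, h2])

theorem toOv_comp {U V : Over S} (v : V ⟶ U) {Z : Over U.left} (k : Z ⟶ Over.mk v.left) :
    toOv v k ≫ v = str U Z := by
  ext1
  exact Over.w k

theorem toOv_inj {U V : Over S} (v : V ⟶ U) {Z : Over U.left} {k k' : Z ⟶ Over.mk v.left}
    (h : toOv v k = toOv v k') : k = k' := by
  ext1
  exact congrArg (fun m => m.left) h

theorem exists_toOv {U V : Over S} (v : V ⟶ U) {Z : Over U.left} (m : ov U Z ⟶ V) (hm : m ≫ v = str U Z) :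
    ∃ k : Z ⟶ Over.mk v.left, toOv v k = m :=
  ⟨Over.homMk m.left (congrArg (fun m => m.left) hm), by ext1; rfl⟩

theorem map_toOv {U V : Over S} (v : V ⟶ U) {Z Z' : Over U.left} (g : Z' ⟶ Z) (k : Z ⟶ Over.mk v.left) :
    toOv v (g ≫ k) = (Over.map U.hom).map g ≫ toOv v k := by
  ext1; rfl

variable {f} in
/-- A representation of the pullback gives a representation of the fibre functor. -/
noncomputable def repOfIsRep {U : Over S} {y : G.obj.obj (op U)} {V : Over S} {v : V ⟶ U}
    {ξ : F.obj.obj (op V)} (h : IsRep f y v ξ) : (fib f y).RepresentableBy (Over.mk v.left) where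
  homEquiv {Z} := Equiv.ofBijective (fun k => (⟨F.obj.map (toOv v k).op ξ, by
      rw [app_map, h.w, ← map_comp_apply, toOv_comp]⟩ : (fib f y).obj (op Z)))
    ⟨fun k k' hk => toOv_inj v (h.inj _ _ (by rw [toOv_comp, toOv_comp]) (congrArg Subtype.val hk)),
      fun s => by
        obtain ⟨m, hm1, hm2⟩ := h.lift (str U Z) s.1 s.2
        obtain ⟨k, rfl⟩ := exists_toOv v m hm1
        exact ⟨k, Subtype.ext hm2⟩⟩
  homEquiv_comp {Z Z'} g k := by
    apply Subtype.ext
    change F.obj.map (toOv v (g ≫ k)).op ξ = F.obj.map ((Over.map U.hom).map g).op (F.obj.map (toOv v k).op ξ)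
    rw [map_toOv, map_comp_apply]

/-- `T ⟶ U` over `S`, as a scheme over `U`. -/
abbrev un {U T : Over S} (t : T ⟶ U) : Over U.left := Over.mk t.left

/-- comparison iso -/
def ovUn {U T : Over S} (t : T ⟶ U) : ov U (un t) ≅ T :=
  Over.isoMk (Iso.refl _) (by
    change 𝟙 _ ≫ T.hom = t.left ≫ U.hom
    rw [Category.id_comp, Over.w t])

@[simp] theorem ovUn_hom_left {U T : Over S} (t : T ⟶ U) : (ovUn t).hom.left = 𝟙 _ := rfl

theorem ovUn_hom_comp {U T : Over S} (t : T ⟶ U) : (ovUn t).hom ≫ t = str U (un t) := by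
  ext1
  change 𝟙 _ ≫ t.left = t.left
  exact Category.id_comp _

variable {f} in
/-- A representation of the fibre functor gives a representation of the pullback. -/
theorem isRep_of_rep {U : Over S} {y : G.obj.obj (op U)} {A : Over U.left}
    (r : (fib f y).RepresentableBy A) : IsRep f y (str U A) (r.homEquiv (𝟙 A)).1 where
  w := (r.homEquiv (𝟙 A)).2
  inj {T} a b hab h := by
    let t : T ⟶ U := a ≫ str U A
    let a' : un t ⟶ A := Over.homMk a.left rfl
    let b' : un t ⟶ A := Over.homMk b.left (congrArg (fun m => m.left) hab.symm)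
    have ha : (Over.map U.hom).map a' = (ovUn t).hom ≫ a := by ext1; simp [a']
    have hb : (Over.map U.hom).map b' = (ovUn t).hom ≫ b := by ext1; simp [b']
    have key : ∀ c : un t ⟶ A, (r.homEquiv c).1 = F.obj.map ((Over.map U.hom).map c).op (r.homEquiv (𝟙 A)).1 := by
      intro c
      have := r.homEquiv_comp c (𝟙 A)
      rw [Category.comp_id] at this
      rw [this]
      rfl
    have h1 : r.homEquiv a' = r.homEquiv b' := by
      apply Subtype.ext
      rw [key, key, ha, hb, map_comp_apply, map_comp_apply, h]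
    have h2 := r.homEquiv.injective h1
    ext1
    exact congrArg (fun m => m.left) h2
  lift {T} t x hx := by
    let s : (fib f y).obj (op (un t)) := ⟨F.obj.map (ovUn t).hom.op x, by
      rw [app_map, hx, ← map_comp_apply, ovUn_hom_comp]⟩
    let k := r.homEquiv.symm s
    have hk : r.homEquiv k = s := r.homEquiv.apply_symm_apply s
    have h1 : F.obj.map ((Over.map U.hom).map k).op (r.homEquiv (𝟙 A)).1 = s.1 := by
      have := r.homEquiv_comp k (𝟙 A)
      rw [Category.comp_id, hk] at this
      rw [this]
      rfl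
    refine ⟨(ovUn t).inv ≫ (Over.map U.hom).map k, ?_, ?_⟩
    · rw [Category.assoc, ovMap_str, Iso.inv_comp_eq, ovUn_hom_comp]
    · rw [map_comp_apply, h1]
      change F.obj.map _ (F.obj.map _ x) = x
      rw [← map_comp_apply, Iso.inv_hom_id, map_id_apply]

/-- morphisms over `V` as morphisms over `S`, through `U`. -/
def toOv2 {U V W : Over S} (v : V ⟶ U) (w : W ⟶ V) {Z : Over V.left} (k : Z ⟶ Over.mk w.left) :
    ov U ((Over.map v.left).obj Z) ⟶ W :=
  Over.homMk k.left (by
    have h1 : k.left ≫ w.left = Z.hom := Over.w k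
    have h2 := Over.w w
    have h3 := Over.w v
    change k.left ≫ W.hom = (Z.hom ≫ v.left) ≫ U.hom
    rw [← h1, Category.assoc, Category.assoc, h3, h2])

theorem toOv2_comp {U V W : Over S} (v : V ⟶ U) (w : W ⟶ V) {Z : Over V.left} (k : Z ⟶ Over.mk w.left) :
    toOv2 v w k ≫ w ≫ v = str U ((Over.map v.left).obj Z) := by
  ext1
  have h1 : k.left ≫ w.left = Z.hom := Over.w k
  change k.left ≫ w.left ≫ v.left = Z.hom ≫ v.left
  rw [← h1, Category.assoc]

theorem map_toOv2 {U V W : Over S} (v : V ⟶ U) (w : W ⟶ V) {Z Z' : Over V.left} (g : Z' ⟶ Z)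
    (k : Z ⟶ Over.mk w.left) :
    toOv2 v w (g ≫ k) = (Over.map U.hom).map ((Over.map v.left).map g) ≫ toOv2 v w k := by
  ext1; rfl

/-- The structure morphism to `V`. -/
def strV {U V : Over S} (v : V ⟶ U) (Z : Over V.left) : ov U ((Over.map v.left).obj Z) ⟶ V :=
  Over.homMk Z.hom (by
    have h3 := Over.w v
    change Z.hom ≫ V.hom = (Z.hom ≫ v.left) ≫ U.hom
    rw [Category.assoc, h3])

theorem strV_comp {U V : Over S} (v : V ⟶ U) (Z : Over V.left) :
    strV v Z ≫ v = str U ((Over.map v.left).obj Z) := by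
  ext1; rfl

theorem toOv2_comp' {U V W : Over S} (v : V ⟶ U) (w : W ⟶ V) {Z : Over V.left} (k : Z ⟶ Over.mk w.left) :
    toOv2 v w k ≫ w = strV v Z := by
  ext1
  exact Over.w k

variable {f} in
/-- A representation of the pullback along a restriction `y|_V` gives a representation of the fibre functor
restricted to `V`. -/
noncomputable def repRestr {U V : Over S} {y : G.obj.obj (op U)} {v : V ⟶ U} {W : Over S} {w : W ⟶ V}
    {ξ : F.obj.obj (op W)} (h : IsRep f (G.obj.map v.op y) w ξ) :
    ((Over.map v.left).op ⋙ fib f y).RepresentableBy (Over.mk w.left) where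
  homEquiv {Z} := Equiv.ofBijective (fun k => (⟨F.obj.map (toOv2 v w k).op ξ, by
      rw [app_map, h.w, ← map_comp_apply, ← map_comp_apply, Category.assoc, toOv2_comp]⟩ :
        (fib f y).obj (op ((Over.map v.left).obj Z))))
    ⟨fun k k' hk => by
        have h1 := h.inj _ _ (by rw [toOv2_comp', toOv2_comp']) (congrArg Subtype.val hk)
        ext1
        exact congrArg (fun m => m.left) h1,
      fun s => by
        have hs : f.hom.app _ s.1 = G.obj.map (str U ((Over.map v.left).obj Z)).op y := s.2
        obtain ⟨m, hm1, hm2⟩ := h.lift (strV v Z) s.1 (hs.trans (by rw [← strV_comp, map_comp_apply]))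
        exact ⟨Over.homMk m.left (congrArg (fun m => m.left) hm1), Subtype.ext hm2⟩⟩
  homEquiv_comp {Z Z'} g k := by
    apply Subtype.ext
    change F.obj.map (toOv2 v w (g ≫ k)).op ξ =
      F.obj.map ((Over.map U.hom).map ((Over.map v.left).map g)).op (F.obj.map (toOv2 v w k).op ξ)
    rw [map_toOv2, map_comp_apply]

/-- Shrinking a representation. -/
noncomputable def repShrink {C : Type (u + 1)} [Category.{u} C] {Q : Cᵒᵖ ⥤ Type (u + 1)} [FunctorToTypes.Small.{u} Q]
    {A : C} (r : Q.RepresentableBy A) : (FunctorToTypes.shrink.{u} Q).RepresentableBy A where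
  homEquiv {Z} := r.homEquiv.trans (equivShrink _)
  homEquiv_comp {Z Z'} g k := by
    simp [r.homEquiv_comp]

variable {f} in
/-- shrunk version of `repRestr` -/
noncomputable def repShrinkR {U V : Over S} {y : G.obj.obj (op U)} {v : V ⟶ U} {W : Over S} {w : W ⟶ V}
    {ξ : F.obj.obj (op W)} [FunctorToTypes.Small.{u} (fib f y)] (h : IsRep f (G.obj.map v.op y) w ξ) :
    ((Over.map v.left).op ⋙ FunctorToTypes.shrink.{u} (fib f y)).RepresentableBy (Over.mk w.left) where
  homEquiv {Z} := (repRestr h).homEquiv.trans (equivShrink _)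
  homEquiv_comp {Z Z'} g k := by
    have := (repRestr h).homEquiv_comp g k
    dsimp at this ⊢
    rw [this]
    simp

noncomputable def repUnshrink {C : Type (u + 1)} [Category.{u} C] {Q : Cᵒᵖ ⥤ Type (u + 1)} [FunctorToTypes.Small.{u} Q]
    {A : C} (r : (FunctorToTypes.shrink.{u} Q).RepresentableBy A) : Q.RepresentableBy A where
  homEquiv {Z} := r.homEquiv.trans (equivShrink _).symm
  homEquiv_comp {Z Z'} g k := by
    simp [r.homEquiv_comp]

section main

variable {U : Over S} {y : G.obj.obj (op U)}

/-- the pulled back cover -/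
theorem fam_pullback {V : U.left → Over S} {v : ∀ t, V t ⟶ U} (hv : ∀ t, Etale (v t).left)
    (ht : ∀ t, t ∈ Set.range (v t).left) {Z : Over S} (z : Z ⟶ U) :
    Fam (ι := Z.left) (fun t => pullback.snd (v (z.left t)) z) where
  flat t := by
    have sq := (IsPullback.of_hasPullback (v (z.left t)) z).map (Over.forget S)
    have h1 : Etale ((Over.forget S).map (pullback.snd (v (z.left t)) z)) :=
      MorphismProperty.of_isPullback sq (hv _)
    have h2 : Etale (pullback.snd (v (z.left t)) z).left := h1
    infer_instance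
  lfp t := by
    have sq := (IsPullback.of_hasPullback (v (z.left t)) z).map (Over.forget S)
    have h1 : Etale ((Over.forget S).map (pullback.snd (v (z.left t)) z)) :=
      MorphismProperty.of_isPullback sq (hv _)
    have h2 : Etale (pullback.snd (v (z.left t)) z).left := h1
    infer_instance
  surj x := by
    obtain ⟨b, hb⟩ := ht (z.left x)
    have sq := (IsPullback.of_hasPullback (v (z.left x)) z).map (Over.forget S)
    obtain ⟨c, hc1, hc2⟩ := Scheme.exists_preimage_of_isPullback sq b x hb
    exact ⟨x, c, hc2⟩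

variable {f} in
/-- If the fibre functor is etale locally representable, it has small values. -/
theorem small_fib {V : U.left → Over S} {v : ∀ t, V t ⟶ U} (hv : ∀ t, Etale (v t).left)
    (ht : ∀ t, t ∈ Set.range (v t).left) {W : U.left → Over S} {w : ∀ t, W t ⟶ V t}
    {ξ : ∀ t, F.obj.obj (op (W t))} (h : ∀ t, IsRep f (G.obj.map (v t).op y) (w t) (ξ t)) :
    FunctorToTypes.Small.{u} (fib f y) := by
  intro Z
  let z := str U Z.unop
  have hfam := fam_pullback hv ht z
  have key : ∀ (s : (fib f y).obj Z) (t : (ov U Z.unop).left),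
      ∃ k : pullback (v (z.left t)) z ⟶ W (z.left t), F.obj.map k.op (ξ (z.left t)) =
        F.obj.map (pullback.snd (v (z.left t)) z).op s.1 := by
    intro s t
    obtain ⟨k, hk1, hk2⟩ := (h (z.left t)).lift (pullback.fst (v (z.left t)) z)
      (F.obj.map (pullback.snd (v (z.left t)) z).op s.1) (by
        have hs : f.hom.app _ s.1 = G.obj.map (str U Z.unop).op y := s.2
        rw [app_map]
        refine (congrArg _ hs).trans ?_
        rw [← map_comp_apply, ← map_comp_apply, pullback.condition])
    exact ⟨k, hk2⟩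
  choose k hk using key
  refine small_of_injective (β := ∀ t : (ov U Z.unop).left, pullback (v (z.left t)) z ⟶ W (z.left t)) (f := k) ?_
  intro s s' hss
  apply Subtype.ext
  refine hfam.ext F fun t => ?_
  rw [← hk, ← hk, hss]

/-- The shrunk fibre functor is an etale sheaf. -/
theorem isEtSheaf_fib [FunctorToTypes.Small.{u} (fib f y)] :
    Groth.Agent.Sga3B.RepDescent.IsEtSheaf (FunctorToTypes.shrink.{u} (fib f y)) := by
  intro T ι T' g hg hs x hx
  let g' : ∀ i, ov U (T' i) ⟶ ov U T := fun i => (Over.map U.hom).map (g i)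
  have hfam : Fam g' := ⟨fun i => by have : Etale (g' i).left := hg i; infer_instance,
    fun i => by have : Etale (g' i).left := hg i; infer_instance, hs⟩
  let x' : ∀ i, (fib f y).obj (op (T' i)) := fun i => (equivShrink _).symm (x i)
  have hx' : ∀ (i j : ι) (Z : Over S) (a : Z ⟶ ov U (T' i)) (b : Z ⟶ ov U (T' j)), a ≫ g' i = b ≫ g' j →
      F.obj.map a.op (x' i).1 = F.obj.map b.op (x' j).1 := by
    intro i j Z a b hab
    let t : Z ⟶ U := a ≫ str U (T' i)
    have hb : t.left = (b ≫ str U (T' j)).left := by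
      have h1 : t = (a ≫ g' i) ≫ str U T := by rw [Category.assoc, ovMap_str]
      rw [h1, hab, Category.assoc, ovMap_str]
    let a' : un t ⟶ T' i := Over.homMk a.left rfl
    let b' : un t ⟶ T' j := Over.homMk b.left hb.symm
    have ha : (Over.map U.hom).map a' = (ovUn t).hom ≫ a := by ext1; simp [a']
    have hb : (Over.map U.hom).map b' = (ovUn t).hom ≫ b := by ext1; simp [b']
    have h1 := hx i j (un t) a' b' (by
      ext1
      exact congrArg (fun m => m.left) hab)
    have h2 : (fib f y).map a'.op (x' i) = (fib f y).map b'.op (x' j) := (equivShrink _).injective h1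
    have h3 := congrArg Subtype.val h2
    rw [fib_map_val, fib_map_val, ha, hb, map_comp_apply, map_comp_apply] at h3
    have key : ∀ c : F.obj.obj (op Z), F.obj.map (ovUn t).inv.op (F.obj.map (ovUn t).hom.op c) = c := by
      intro c
      rw [← map_comp_apply, Iso.inv_hom_id, map_id_apply]
    rw [← key (F.obj.map a.op (x' i).1), h3, key]
  obtain ⟨s, hs1, hs2⟩ := hfam.glue F (fun i => (x' i).1) hx'
  have hs3 : f.hom.app _ s = G.obj.map (str U T).op y := by
    refine hfam.ext G fun i => ?_
    rw [← app_map, hs1, ← map_comp_apply, ovMap_str]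
    exact (x' i).2
  refine ⟨equivShrink _ (⟨s, hs3⟩ : (fib f y).obj (op T)), fun i => ?_, fun s' hs' => ?_⟩
  · change equivShrink _ ((fib f y).map (g i).op ((equivShrink _).symm (equivShrink _ _))) = x i
    rw [Equiv.symm_apply_apply, ← Equiv.eq_symm_apply]
    exact Subtype.ext (hs1 i)
  · rw [← Equiv.symm_apply_eq]
    apply Subtype.ext
    refine hs2 _ fun i => ?_
    have h1 := hs' i
    have h2 : (fib f y).map (g i).op ((equivShrink _).symm s') = x' i := by
      rw [← Equiv.apply_eq_iff_eq (equivShrink _), Equiv.apply_symm_apply]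
      exact h1
    exact congrArg Subtype.val h2

variable {f} in
/-- **Etale descent of representability** for morphisms of fppf sheaves. -/
theorem exists_isRep_of_etale
    (H : ∀ t : U.left, ∃ (V : Over S) (v : V ⟶ U) (W : Over S) (w : W ⟶ V) (ξ : F.obj.obj (op W)),
      Etale v.left ∧ t ∈ Set.range v.left ∧ IsRep f (G.obj.map v.op y) w ξ ∧
      ∀ O : W.left.Opens, IsCompact (O : Set W.left) → (O : Scheme.{u}).IsQuasiAffine) :
    ∃ (W : Over S) (w : W ⟶ U) (ξ : F.obj.obj (op W)), IsRep f y w ξ := by
  choose V v W w ξ hv ht h hO using H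
  have := small_fib hv ht h
  obtain ⟨A, ⟨r⟩⟩ := Groth.Agent.Sga3B.RepDescent.exists_representableBy_of_etale (isEtSheaf_fib f (y := y))
    (fun t => ⟨(V t).left, (v t).left, hv t, ht t, Over.mk (w t).left, ⟨repShrinkR (h t)⟩, hO t⟩)
  exact ⟨_, _, _, isRep_of_rep (repUnshrink r)⟩

end main

end K597.FibF
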