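import Groth.Agent.AlgSp.K608.Grp
import Groth.Agent.AlgSp.K595.DiagRel
import Groth.Agent.AlgSp.K596.QC2

/-!
# Separation of group algebraic spaces
-/

set_option autoImplicit false
set_option backward.isDefEq.respectTransparency false
set_option backward.isDefEq.respectTransparency.types false
universe u
open CategoryTheory CategoryTheory.Limits AlgebraicGeometry Opposite
  MonoidalCategory CartesianMonoidalCategory MonObj
open AlgSp

namespace K597.GrpSep

variable {S : Scheme.{u}} {B : AlgSp.Sp S}

/-- The diagonal of a group object is a base change of the unit section. -/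
theorem isPullback_diagonal (G : Over B) [GrpObj G] :
    IsPullback G.hom (pullback.diagonal G.hom) (η[G]).left (fst G G * (snd G G)⁻¹ : G ⊗ G ⟶ G).left := by
  have hη : (η[G]).left ≫ G.hom = 𝟙 B := Over.w η[G]
  have hdiv : (fst G G * (snd G G)⁻¹ : G ⊗ G ⟶ G).left ≫ G.hom = (G ⊗ G).hom := Over.w _
  have hd : pullback.diagonal G.hom = (lift (𝟙 G) (𝟙 G)).left := by
    apply pullback.hom_ext
    · rw [pullback.diagonal_fst, Over.lift_left]
      simp
    · rw [pullback.diagonal_snd, Over.lift_left]
      simp
  have h0 : lift (𝟙 G) (𝟙 G) ≫ (fst G G * (snd G G)⁻¹) = toUnit G ≫ η[G] := by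
    rw [comp_mul, GrpObj.comp_inv, lift_fst, lift_snd, mul_inv_cancel, Hom.one_def]
  refine K608.Gpd.isPullback_of_exists_unique ?_ ?_ ?_
  · rw [hd, ← Over.comp_left, h0]
    rfl
  · intro T a b h
    have ha : b ≫ (G ⊗ G).hom = a := by
      rw [← hdiv, ← Category.assoc, ← h, Category.assoc, hη, Category.comp_id]
    let b' : Over.mk a ⟶ G ⊗ G := Over.homMk b ha
    have e : b' ≫ (fst G G * (snd G G)⁻¹) = toUnit _ ≫ η[G] := by
      apply Over.OverMorphism.ext
      exact h.symm
    rw [comp_mul, GrpObj.comp_inv, ← Hom.one_def, mul_inv_eq_one] at e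
    refine ⟨(b' ≫ fst G G).left, Over.w _, ?_⟩
    rw [hd, ← Over.comp_left]
    have : (b' ≫ fst G G) ≫ lift (𝟙 G) (𝟙 G) = b' := by
      apply CartesianMonoidalCategory.hom_ext
      · simp
      · rw [Category.assoc, lift_snd, Category.comp_id, e]
    rw [this]
    rfl
  · intro T l l' h1 h2
    have := congrArg (fun k => k ≫ pullback.fst G.hom G.hom) h2
    simpa using this

end K597.GrpSep
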