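import Groth.Agent.AlgSp.K597.LocP
import Groth.Agent.AlgSp.K597.EtLoc
import Groth.Agent.AlgSp.K597.Affine
import Groth.Agent.AlgSp.K596.Pts

/-!
# `LocP P` is tested on base changes to affine schemes

`locP_iff_affine`.
-/

set_option autoImplicit false
set_option backward.isDefEq.respectTransparency false
set_option backward.isDefEq.respectTransparency.types false
universe u
open CategoryTheory CategoryTheory.Limits AlgebraicGeometry Opposite AlgSp

namespace K597

open K596.Pts

variable {S : Scheme.{u}} {P : MorphismProperty Scheme.{u}}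

/-- `LocP P f` can be tested on base changes to affine schemes over the target. -/
theorem locP_of_affine (hP : EtLoc P) {X Y : Sp S} (hY : HasAtlas Y) (f : X ⟶ Y)
    (H : ∀ (Z : Over S), IsAffine Z.left → ∀ (g : (yon S).obj Z ⟶ Y), RepWith @Etale g → ∃ (Q : Sp S)
      (fst : Q ⟶ X) (snd : Q ⟶ (yon S).obj Z), IsPullback fst snd f g ∧ LocP P snd) : LocP P f := by
  refine locP_of_local hP f fun U' a' ha' x => ?_
  obtain ⟨V₁, b₁, hb₁, hbs₁⟩ := hY
  obtain ⟨z, hz⟩ := surjective_of_repWith hbs₁ (Points.map (a' ≫ f) (Points.schemeHomeo U' x))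
  obtain ⟨v₁, rfl⟩ := (Points.schemeHomeo V₁).surjective z
  obtain ⟨V, i, hV, hi, ⟨v, hv⟩, -⟩ := K597.Affine.exists_affine_nhd V₁ ⊤ v₁ trivial
  have hb : RepWith @Etale ((yon S).map i ≫ b₁) := etale_comp (etale_map i inferInstance) hb₁
  obtain ⟨Q, g', f', sq, hQ⟩ := H V hV ((yon S).map i ≫ b₁) hb
  obtain ⟨U, p, q, sqU, hp⟩ := exists_sq2 hb (a' ≫ f)
  have sqU' : IsPullback ((yon S).map q) ((yon S).map p) (a' ≫ f) (𝟙 _ ≫ (yon S).map i ≫ b₁) := by
    rw [Category.id_comp]; exact sqU.flip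
  obtain ⟨α, hα, hα1, hα2⟩ := exists_chart_bc @Etale sq sqU' ha'
    (etale_map (S := S) (𝟙 V) (by rw [Over.id_left]; infer_instance) |> fun h => by
      rwa [(yon S).map_id] at h)
  have hq : P p.left := hQ α (𝟙 _) p hα (etale_map (S := S) (𝟙 V) (by rw [Over.id_left]; infer_instance) |> fun h => by
      rwa [(yon S).map_id] at h) hα2
  refine ⟨U, V, U, (yon S).map q ≫ a', (yon S).map i ≫ b₁, p, 𝟙 _, q, hb, ?_, hq, ?_, ?_, ?_, ?_⟩
  · rw [Category.assoc]; exact sqU.flip.w
  · rw [(yon S).map_id, Category.id_comp]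
  · rw [Over.id_left]; infer_instance
  · exact hp
  · obtain ⟨w, hw1, hw2⟩ := exists_of_isPullback sqU (Points.schemeHomeo V v) (Points.schemeHomeo U' x) (by
      rw [Points.map_comp, Points.map_yon_map_apply, hv, hz])
    obtain ⟨u, rfl⟩ := (Points.schemeHomeo U).surjective w
    rw [Points.map_yon_map_apply] at hw2
    exact ⟨u, (Points.schemeHomeo U').injective hw2⟩

/-- `LocP P f` is tested on base changes to affine schemes over the target. -/
theorem locP_iff_affine (hP : EtLoc P) [P.IsStableUnderBaseChange] {X Y : Sp S} (hX : HasAtlas X) (hY : HasAtlas Y)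
    (f : X ⟶ Y) :
    LocP P f ↔ ∀ (Z : Over S), IsAffine Z.left → ∀ (g : (yon S).obj Z ⟶ Y) (Q : Sp S)
      (fst : Q ⟶ X) (snd : Q ⟶ (yon S).obj Z), IsPullback fst snd f g → LocP P snd :=
  ⟨fun h _ _ _ _ _ _ sq => locP_bc hP sq hX hY (IsAlgSpace.yon_obj _).hasAtlas h,
    fun h => locP_of_affine hP hY f fun Z hZ g _ =>
      ⟨_, _, _, IsPullback.of_hasPullback f g, h Z hZ g _ _ _ (IsPullback.of_hasPullback f g)⟩⟩

end K597
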