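import Groth.Agent.AlgSp.K597.LocAff
import Groth.Agent.AlgSp.K617.FinLoc
import Groth.Agent.AlgSp.K595.SepDesc
import Groth.Agent.AlgSp.K595.DiagBasic
import Groth.Agent.AlgSp.K596.SepSurj
import Groth.Agent.AlgSp.K596.ClosedQC
import Groth.Agent.AlgSp.K596.QC2
import Mathlib.AlgebraicGeometry.Morphisms.Proper

/-!
# Proper, finite and integral morphisms of algebraic spaces

* `isProperMor_of_isPullback`, `isProperMor_iff_affine`, `isProperMor_of_cover`.
* `isIntegralMor_iff_affine_univClosed`, `isFiniteMor_iff_affine_proper`, `finite_of_comp`, `integral_of_comp`.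
* `isProperMor_iff_repWith` for representable morphisms.
-/

set_option autoImplicit false
set_option backward.isDefEq.respectTransparency false
set_option backward.isDefEq.respectTransparency.types false
universe u
open CategoryTheory CategoryTheory.Limits AlgebraicGeometry Opposite AlgSp

namespace K597.Proper

variable {S : Scheme.{u}} {X Y Z P : Sp S}

theorem isProperMor_of_isPullback (hX : IsAlgSpace X) (hY : IsAlgSpace Y) (hZ : IsAlgSpace Z) {f : X ⟶ Y} {g : Z ⟶ Y}
    {fst : P ⟶ X} {snd : P ⟶ Z} (sq : IsPullback fst snd f g) (h : IsProperMor f) : IsProperMor snd := by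
  obtain ⟨h1, ⟨h2, h3⟩, h4⟩ := h
  exact ⟨K595.DiagRel.isSeparatedMor_isStableUnderBaseChange.of_isPullback sq h1,
    ⟨locP_bc etLoc_lft sq hX.hasAtlas hY.hasAtlas hZ.hasAtlas h2, K596.QC.isQuasiCompactMor_of_isPullback sq h3⟩,
    K596.ClosedQC.isUnivClosedMor_of_isPullback sq h4⟩

theorem isProperMor_iff_affine (hX : IsAlgSpace X) (hY : IsAlgSpace Y) (f : X ⟶ Y) :
    IsProperMor f ↔
      ∀ (Z : Over S), IsAffine Z.left → ∀ (g : (yon S).obj Z ⟶ Y) (P : Sp S) (fst : P ⟶ X)
        (snd : P ⟶ (yon S).obj Z), IsPullback fst snd f g → IsProperMor snd := by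
  refine ⟨fun h _ _ _ _ _ _ sq => isProperMor_of_isPullback hX hY (IsAlgSpace.yon_obj _) sq h, fun h => ?_⟩
  refine ⟨?_, ⟨?_, ?_⟩, ?_⟩
  · rw [K595.SepDesc.isSeparatedMor_iff_affine hX]
    exact fun Z hZ g P fst snd sq => (h Z hZ g P fst snd sq).1
  · rw [locP_iff_affine etLoc_lft hX.hasAtlas hY.hasAtlas]
    exact fun Z hZ g P fst snd sq => (h Z hZ g P fst snd sq).2.1.1
  · refine K596.QC.isQuasiCompactMor_of_affine hX hY fun Z hZ g P fst snd sq => ?_
    have := (h Z hZ g P fst snd sq).2.1.2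
    have h2 : IsQuasiCompactSp P := this (IsAlgSpace.yon_obj _) (K596.QC.isQuasiCompactSp_yon Z) (𝟙 _) (𝟙 _) snd
      (IsPullback.of_horiz_isIso ⟨by simp⟩)
    exact K609.QC.compactSpace_points h2
  · rw [K596.Univ.isUnivClosedMor_iff_affine]
    exact fun Z hZ g P fst snd sq => (h Z hZ g P fst snd sq).2.2 (IsAlgSpace.yon_obj _) (𝟙 _) (𝟙 _) snd
      (IsPullback.of_horiz_isIso ⟨by simp⟩)

theorem isProperMor_of_cover (hX : IsAlgSpace X) (hY : IsAlgSpace Y) {f : X ⟶ Y} {V : Over S}
    {p : (yon S).obj V ⟶ Y} (hp : RepWith @Etale p) (hps : RepWith @Surjective p)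
    {fst : P ⟶ X} {snd : P ⟶ (yon S).obj V} (sq : IsPullback fst snd f p) (h : IsProperMor snd) :
    IsProperMor f := by
  obtain ⟨h1, ⟨h2, h3⟩, h4⟩ := h
  refine ⟨?_, ⟨?_, ?_⟩, ?_⟩
  · have hfp : RepWith K595.RepDesc.Fppf p := by
      refine ⟨hp.1, fun _ _ g fst snd sq => ?_⟩
      have e1 : Etale snd.left := hp.2 g fst snd sq
      have e2 : Surjective snd.left := hps.2 g fst snd sq
      exact ⟨⟨e2, (inferInstance : Flat snd.left)⟩, (inferInstance : LocallyOfFinitePresentation snd.left)⟩
    exact K595.SepDesc.isSeparatedMor_of_cover hX hfp sq h1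
  · exact locP_of_target etLoc_lft sq hX.hasAtlas (IsAlgSpace.yon_obj V).hasAtlas hp hps h2
  · have ho : IsUnivOpenMor p := (K596.Univ.repWith_universallyOpen_iff hp.1).1
      (K596.Univ.repWith_universallyOpen_of_etale hp)
    exact K596.QC.isQuasiCompactMor_of_univOpen hX hY (IsAlgSpace.yon_obj V) sq ho
      (K596.Pts.surjective_of_repWith hps) h3
  · exact K596.Univ.isUnivClosedMor_of_cover p (K596.Univ.repWith_universallyOpen_of_etale hp) hps sq h4

theorem isSeparatedMor_of_isAffineMor {f : X ⟶ Y} (hf : IsAffineMor f) : IsSeparatedMor f := by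
  have h := K597.Affine.repWith_of_isAffineMor hf
  refine (K595.DiagBasic.isSeparatedMor_iff_repWith h.1).2 ?_
  exact repWith_mono (fun _ _ f (hf : IsAffineHom f) => (inferInstance : IsSeparated f)) h

/-- integral = affine + universally closed -/
theorem isIntegralMor_iff_affine_univClosed {f : X ⟶ Y} :
    IsIntegralMor f ↔ IsAffineMor f ∧ IsUnivClosedMor f := by
  rw [K617.FinLoc.isIntegralMor_iff, K597.Affine.isAffineMor_iff]
  constructor
  · intro h
    refine ⟨repWith_mono (fun _ _ f (hf : IsIntegralHom f) => (inferInstance : IsAffineHom f)) h, ?_⟩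
    refine (K596.Univ.repWith_universallyClosed_iff h.1).1 ?_
    exact repWith_mono (fun _ _ f (hf : IsIntegralHom f) => (inferInstance : UniversallyClosed f)) h
  · rintro ⟨h1, h2⟩
    have h3 := (K596.Univ.repWith_universallyClosed_iff h1.1).2 h2
    refine ⟨h1.1, fun U V g fst snd sq => ?_⟩
    exact IsIntegralHom.iff_universallyClosed_and_isAffineHom.2 ⟨h3.2 g fst snd sq, h1.2 g fst snd sq⟩

/-- Proper representable morphisms. -/
theorem isProperMor_iff_repWith (hY : IsAlgSpace Y) {f : X ⟶ Y} (hf : Representable f) :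
    IsProperMor f ↔ RepWith @IsProper f := by
  constructor
  · rintro ⟨h1, ⟨h2, h3⟩, h4⟩
    have e1 := (K595.DiagBasic.isSeparatedMor_iff_repWith hf).1 h1
    have e2 : RepWith @LocallyOfFiniteType f := repWith_of_locP etLoc_lft hY.hasAtlas hf h2
    have e4 := (K596.Univ.repWith_universallyClosed_iff hf).2 h4
    refine ⟨hf, fun U V g fst snd sq => ?_⟩
    have a1 : IsSeparated snd.left := e1.2 g fst snd sq
    have a2 : LocallyOfFiniteType snd.left := e2.2 g fst snd sq
    have a4 : UniversallyClosed snd.left := e4.2 g fst snd sq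
    exact (isProper_iff snd.left).2 ⟨a1, a4, a2⟩
  · intro h
    refine ⟨(K595.DiagBasic.isSeparatedMor_iff_repWith hf).2 ?_, ⟨?_, ?_⟩, ?_⟩
    · exact repWith_mono (fun _ _ f (hf : IsProper f) => (inferInstance : IsSeparated f)) h
    · exact locP_of_repWith etLoc_lft.precomp
        (repWith_mono (fun _ _ f (hf : IsProper f) => (inferInstance : LocallyOfFiniteType f)) h)
    · exact K596.QC.isQuasiCompactMor_of_repWith
        (repWith_mono (fun _ _ f (hf : IsProper f) => (inferInstance : QuasiCompact f)) h)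
    · exact (K596.Univ.repWith_universallyClosed_iff hf).1
        (repWith_mono (fun _ _ f (hf : IsProper f) => (inferInstance : UniversallyClosed f)) h)

/-- finite = affine + proper -/
theorem isFiniteMor_iff_affine_proper (hY : IsAlgSpace Y) {f : X ⟶ Y} :
    IsFiniteMor f ↔ IsAffineMor f ∧ IsProperMor f := by
  rw [K617.FinLoc.isFiniteMor_iff, K597.Affine.isAffineMor_iff]
  constructor
  · intro h
    refine ⟨repWith_mono (fun _ _ f (hf : IsFinite f) => (inferInstance : IsAffineHom f)) h, ?_⟩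
    rw [isProperMor_iff_repWith hY h.1]
    exact repWith_mono (fun _ _ f (hf : IsFinite f) => (inferInstance : IsProper f)) h
  · rintro ⟨h1, h2⟩
    rw [isProperMor_iff_repWith hY h1.1] at h2
    refine ⟨h1.1, fun U V g fst snd sq => ?_⟩
    exact IsFinite.iff_isProper_and_isAffineHom.2 ⟨h2.2 g fst snd sq, h1.2 g fst snd sq⟩

theorem finite_of_comp {f : X ⟶ Y} {g : Y ⟶ Z} (hg : IsSeparatedMor g) (h : IsFiniteMor (f ≫ g)) :
    IsFiniteMor f := by
  rw [K617.FinLoc.isFiniteMor_iff] at *
  exact K613.Diag.repWith_of_comp h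
    (repWith_mono (fun _ _ f (hf : IsClosedImmersion f) => (inferInstance : IsFinite f)) hg)

theorem integral_of_comp {f : X ⟶ Y} {g : Y ⟶ Z} (hg : IsSeparatedMor g) (h : IsIntegralMor (f ≫ g)) :
    IsIntegralMor f := by
  rw [K617.FinLoc.isIntegralMor_iff] at *
  exact K613.Diag.repWith_of_comp h
    (repWith_mono (fun _ _ f (hf : IsClosedImmersion f) => (inferInstance : IsIntegralHom f)) hg)

end K597.Proper
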