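import Groth.Agent.AlgSp.K597.Affine
import Groth.Agent.Ega2.QuasiAffine
import Groth.Agent.S1127

/-!
# Quasi-affine morphisms of fppf sheaves

* `isQuasiAffineMor_iff`: `IsQuasiAffineMor f ↔ RepWith QAff f`.
* `isQuasiAffineMor_of_cover`: descends along representable etale surjective base change (S9946).
-/

set_option autoImplicit false
set_option backward.isDefEq.respectTransparency false
set_option backward.isDefEq.respectTransparency.types false
universe u
open CategoryTheory CategoryTheory.Limits AlgebraicGeometry Opposite AlgSp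

namespace K597.QAff

open K594.Elem K594.Cover K597.FibF K597.EffDesc K597.Affine Groth.Agent.Ega2.QuasiAffine

variable {S : Scheme.{u}} {F G : Sp S} {f : F ⟶ G}

/-- quasi-affine morphisms descend along fppf coverings. -/
theorem descendsAlong_qaff : QAff.{u}.DescendsAlong Fppf.{u} := by
  have : QAff.{u}.DescendsAlong (@Surjective ⊓ @Flat ⊓ @QuasiCompact : MorphismProperty Scheme.{u}) :=
    Groth.Agent.S1127.result.{u}
  infer_instance

theorem qaff_of_isQuasiAffine {X Y : Scheme.{u}} (f : X ⟶ Y) (hX : X.IsQuasiAffine) (hY : IsAffine Y) :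
    QAff f := (HasAffineProperty.iff_of_isAffine (P := QAff)).2 hX

theorem isQuasiAffine_of_qaff' {X Y : Scheme.{u}} (f : X ⟶ Y) (hf : QAff f) (hY : IsAffine Y) :
    X.IsQuasiAffine := (HasAffineProperty.iff_of_isAffine (P := QAff)).1 hf

/-- The data of `IsQuasiAffineMor` in terms of sections. -/
theorem exists_isRep_of_isQuasiAffineMor (hf : IsQuasiAffineMor f) {Z : Over S} (hZ : IsAffine Z.left)
    (y : G.obj.obj (op Z)) :
    ∃ (W : Over S) (w : W ⟶ Z) (ξ : F.obj.obj (op W)), IsRep f y w ξ ∧ W.left.IsQuasiAffine := by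
  obtain ⟨W, i, fst, sq, hW⟩ := hf hZ (secEquiv.symm y)
  have := isRep_of_isPullback sq
  rw [Equiv.apply_symm_apply] at this
  exact ⟨W, i, _, this, hW⟩

theorem repWith_of_isQuasiAffineMor (hf : IsQuasiAffineMor f) : RepWith QAff f := by
  have := descendsAlong_qaff.{u}
  refine repWith_of_etale_local _ fun U y t => ?_
  obtain ⟨V, v, hV, hv, ht, -⟩ := exists_affine_nhd U ⊤ t trivial
  obtain ⟨W, w, ξ, h, hW⟩ := exists_isRep_of_isQuasiAffineMor hf hV (G.obj.map v.op y)
  exact ⟨V, v, W, w, ξ, inferInstance, ht, h, qaff_of_isQuasiAffine _ hW hV,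
    fun O hO => isQuasiAffine_open O hO⟩

theorem isQuasiAffineMor_of_repWith (hf : RepWith QAff f) : IsQuasiAffineMor f := by
  intro Z hZ g
  obtain ⟨W, i, fst, sq⟩ := hf.1 g
  exact ⟨W, i, fst, sq, isQuasiAffine_of_qaff' i.left (hf.2 g fst i sq) hZ⟩

theorem isQuasiAffineMor_iff : IsQuasiAffineMor f ↔ RepWith QAff f :=
  ⟨repWith_of_isQuasiAffineMor, isQuasiAffineMor_of_repWith⟩

/-- Quasi-affineness descends along a representable etale surjective morphism (S9946). -/
theorem repWith_of_cover {F' G' : Sp S} {g : G' ⟶ G} {g' : F' ⟶ F} {f' : F' ⟶ G'}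
    (sq : IsPullback g' f' f g) (hg : RepWith @Etale g) (hgs : RepWith @Surjective g)
    (h : IsQuasiAffineMor f') : RepWith QAff f := by
  have := descendsAlong_qaff.{u}
  refine repWith_of_etale_local _ fun U y t => ?_
  obtain ⟨V, v, y₀, hV, hv, ht, hy⟩ := exists_local_lift hg hgs U y t
  obtain ⟨W, w, ξ, h', hW⟩ := exists_isRep_of_isQuasiAffineMor h hV y₀
  have h2 := isRep_of_bc sq h'
  rw [hy] at h2
  exact ⟨V, v, W, w, _, hv, ht, h2, qaff_of_isQuasiAffine _ hW hV,
    fun O hO => isQuasiAffine_open O hO⟩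

theorem isQuasiAffineMor_of_cover {F' G' : Sp S} {g : G' ⟶ G} {g' : F' ⟶ F} {f' : F' ⟶ G'}
    (sq : IsPullback g' f' f g) (hg : RepWith @Etale g) (hgs : RepWith @Surjective g)
    (h : IsQuasiAffineMor f') : IsQuasiAffineMor f :=
  isQuasiAffineMor_of_repWith (repWith_of_cover sq hg hgs h)

end K597.QAff
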