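import Groth.Agent.AlgSp.K597.SubChart
import Groth.Agent.AlgSp.K597.FlatKer
import Groth.Agent.AlgSp.K595.DescInst
import Groth.Agent.AlgSp.K598.ClFam
import Groth.Agent.AlgSp.K596.QC

/-!
# The scheme theoretic image of a representable quasi-compact morphism of algebraic spaces

`exists_image`: `i : Z ⟶ X` representable and quasi-compact, `p : h_U ⟶ X` an atlas, `v : V ⟶ U` the base change of
`i`.  Then there are `j : Z ⟶ Zbar`, `c : Zbar ⟶ X` with `c` a closed immersion, `j ≫ c = i`, such that the base change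
to `U` is `V ⟶ image v ⟶ U`.
-/

set_option autoImplicit false
set_option backward.isDefEq.respectTransparency false
set_option backward.isDefEq.respectTransparency.types false
universe u
open CategoryTheory CategoryTheory.Limits AlgebraicGeometry Opposite AlgSp

namespace K597.RepImage

open K594.Elem K594.Cover K597.FibF K597.EffDesc K597.Affine K598.Site K598.RepKit K597.SubChart K597.FlatKer

variable {S : Scheme.{u}} {X Z : Sp S} {C U V : Over S}

/-- A closed subscheme as an object over `S`. -/
noncomputable abbrev cl (U : Over S) (I : U.left.IdealSheafData) : Over S := Over.mk (I.subschemeι ≫ U.hom)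

/-- its inclusion. -/
noncomputable abbrev clι (U : Over S) (I : U.left.IdealSheafData) : cl U I ⟶ U := Over.homMk I.subschemeι rfl

instance mono_clι (U : Over S) (I : U.left.IdealSheafData) : Mono (clι U I) :=
  (Over.forget S).mono_of_mono_map (inferInstanceAs (Mono I.subschemeι))

theorem factors_clι_iff (U : Over S) (I : U.left.IdealSheafData) {T : Over S} (t : T ⟶ U) :
    (∃ k, k ≫ clι U I = t) ↔ I.comap t.left = ⊥ := by
  constructor
  · rintro ⟨k, rfl⟩
    rw [← K598.ClFam.le_ker_iff, Over.comp_left]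
    calc I = I.subschemeι.ker := (Scheme.IdealSheafData.ker_subschemeι I).symm
      _ ≤ _ := Scheme.Hom.le_ker_comp _ _
  · intro h
    obtain ⟨k, hk⟩ := K598.ClFam.exists_lift_subschemeι I t.left h
    refine ⟨Over.homMk k ?_, ?_⟩
    · change k ≫ I.subschemeι ≫ U.hom = _
      rw [← Category.assoc, hk, Over.w t]
    · ext1
      exact hk

/-- The ideal of the image of a quasi-compact representable morphism is invariant. -/
theorem inv_ker {i : Z ⟶ X} (hi : RepWith @QuasiCompact i) {p : (yon S).obj U ⟶ X} (hp : RepWith @Flat p)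
    {fst : (yon S).obj V ⟶ Z} {v : V ⟶ U} (sq : IsPullback fst ((yon S).map v) i p) :
    Inv p (clι U v.left.ker) := by
  intro T s t hst hs
  rw [factors_clι_iff] at hs ⊢
  have hv : QuasiCompact v.left := hi.2 _ _ _ sq
  obtain ⟨R, r₁, r₂', sqR⟩ := hp.1 p
  obtain ⟨r₂, rfl⟩ := (yon S).map_surjective r₂'
  have hr₁ : Flat r₁.left := hp.2 _ _ _ sqR
  have hr₂ : Flat r₂.left := hp.2 _ _ _ sqR.flip
  -- the base change of `i` to `R`
  obtain ⟨W, w, b, sqW⟩ := hi.1 ((yon S).map r₁ ≫ p)
  obtain ⟨ψ₁, -, h₁⟩ := exists_isPullback_of_comp sq sqW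
  have sqW' : IsPullback b ((yon S).map w) i ((yon S).map r₂ ≫ p) := by rw [sqR.w]; exact sqW
  obtain ⟨ψ₂, -, h₂⟩ := exists_isPullback_of_comp sq sqW'
  have e₁ : w.left.ker = v.left.ker.comap r₁.left := ker_of_isPullback_flat (h₁.map (Over.forget S))
  have e₂ : w.left.ker = v.left.ker.comap r₂.left := ker_of_isPullback_flat (h₂.map (Over.forget S))
  obtain ⟨r, hr⟩ := (yon S).map_surjective (sqR.lift ((yon S).map s) ((yon S).map t) hst)
  have hs' : r ≫ r₂ = s := (yon S).map_injective (by rw [Functor.map_comp, hr, sqR.lift_fst])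
  have ht' : r ≫ r₁ = t := (yon S).map_injective (by rw [Functor.map_comp, hr, sqR.lift_snd])
  rw [← ht', Over.comp_left, Scheme.IdealSheafData.comap_comp, ← e₁, e₂, ← Scheme.IdealSheafData.comap_comp,
    ← Over.comp_left, hs', hs]

/-- Closed immersions descend. -/
theorem repWith_ι_cl {p : (yon S).obj U ⟶ X} {I : U.left.IdealSheafData} (h : Inv p (clι U I))
    (hp : RepWith @Etale p) (hps : RepWith @Surjective p) : RepWith @IsClosedImmersion (ι p (clι U I)) := by
  have := K595.DescInst.isClosedImmersion.{u}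
  exact repWith_sub @IsClosedImmersion hqa_closed h hp hps (inferInstanceAs (IsClosedImmersion I.subschemeι))

/-- The map to the image as a morphism over `S`. -/
noncomputable def toCl (v : V ⟶ U) : V ⟶ cl U v.left.ker :=
  Over.homMk v.left.toImage (by
    change v.left.toImage ≫ v.left.imageι ≫ U.hom = _
    rw [← Category.assoc, Scheme.Hom.toImage_imageι, Over.w v])

theorem toCl_clι (v : V ⟶ U) : toCl v ≫ clι U v.left.ker = v := by
  ext1
  exact v.left.toImage_imageι

/-- The scheme theoretic image of a representable quasi-compact morphism. -/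
theorem exists_image {i : Z ⟶ X} (hi : RepWith @QuasiCompact i) {p : (yon S).obj U ⟶ X} (hp : RepWith @Etale p)
    (hps : RepWith @Surjective p) {fst : (yon S).obj V ⟶ Z} {v : V ⟶ U}
    (sq : IsPullback fst ((yon S).map v) i p) :
    ∃ (Zbar : Sp S) (j : Z ⟶ Zbar) (c : Zbar ⟶ X) (q : (yon S).obj (cl U v.left.ker) ⟶ Zbar), j ≫ c = i ∧
      RepWith @IsClosedImmersion c ∧ IsPullback q ((yon S).map (clι U v.left.ker)) c p ∧
      IsPullback fst ((yon S).map (toCl v)) j q := by
  have hpf : RepWith @Flat p := repWith_mono (fun _ _ f (_ : Etale f) => (inferInstance : Flat f)) hp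
  have h := inv_ker hi hpf sq
  obtain ⟨q, sqq⟩ := isPullback_sub h
  obtain ⟨j, hj⟩ : ∃ j, j ≫ ι p (clι U v.left.ker) = i := by
    refine ((subQ p (clι U v.left.ker)).factors_iff i).2 fun T g T' φ t ht => ?_
    obtain ⟨k, hk⟩ := (yon S).map_surjective (sq.lift ((yon S).map φ ≫ g) ((yon S).map t) (by
      rw [Category.assoc]; exact ht))
    refine ⟨k ≫ toCl v, ?_⟩
    rw [Category.assoc, toCl_clι]
    apply (yon S).map_injective
    rw [Functor.map_comp, hk, sq.lift_snd]
  have w : fst ≫ j = (yon S).map (toCl v) ≫ q := by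
    rw [← cancel_mono (ι p (clι U v.left.ker)), Category.assoc, hj, Category.assoc, sqq.w, sq.w, ← Category.assoc,
      ← Functor.map_comp, toCl_clι]
  refine ⟨_, j, ι p (clι U v.left.ker), q, hj, repWith_ι_cl h hp hps, sqq, ?_⟩
  refine IsPullback.of_bot ?_ w sqq
  rw [← Functor.map_comp, toCl_clι, hj]
  exact sq

/-- A quasi-compact immersion factors as an open immersion followed by a closed immersion. -/
theorem exists_openImmersion_closedImmersion {i : Z ⟶ X} (hX : IsAlgSpace X) (hi : RepWith @IsImmersion i)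
    (hq : RepWith @QuasiCompact i) :
    ∃ (Zbar : Sp S) (j : Z ⟶ Zbar) (c : Zbar ⟶ X), j ≫ c = i ∧ RepWith @IsOpenImmersion j ∧
      RepWith @IsClosedImmersion c := by
  obtain ⟨U, p, hp, hps⟩ := hX.atlas
  obtain ⟨V, v, fst, sq⟩ := hi.1 p
  have hv : IsImmersion v.left := hi.2 _ _ _ sq
  have hvq : QuasiCompact v.left := hq.2 _ _ _ sq
  obtain ⟨Zbar, j, c, q, hj, hc, sqq, sqj⟩ := exists_image hq hp hps sq
  refine ⟨Zbar, j, c, hj, ?_, hc⟩
  have := K595.DescInst.isOpenImmersion.{u}
  refine repWith_of_isPullback_chart @IsOpenImmersion hqa_open sqj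
    (MorphismProperty.of_isPullback (P := RepWith _) sqq.flip hp)
    (MorphismProperty.of_isPullback (P := RepWith _) sqq.flip hps) ?_
  exact (repWith_yon_map_iff _ _).2 (inferInstanceAs (IsOpenImmersion v.left.toImage))

end K597.RepImage
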