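import Groth.Agent.AlgSp.K597.EtSheaf2
import Groth.Agent.AlgSp.K607.Slice
import Groth.Agent.FlatA.EtaleSections

/-!
# Etale sheaves with a smooth surjective map from an algebraic space

* `isAlgSpaceP_of_smooth`: an etale sheaf with a smooth surjective map from an algebraic space, representable by
  algebraic spaces, is an algebraic space.
-/

set_option autoImplicit false
set_option backward.isDefEq.respectTransparency false
set_option backward.isDefEq.respectTransparency.types false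
universe u
open CategoryTheory CategoryTheory.Limits AlgebraicGeometry Opposite AlgSp

namespace K597.SmSheaf

open K594.Cover K606.PshBasic K597.EtSheaf

variable {S : Scheme.{u}}

/-- Smooth surjective maps have sections etale locally. -/
theorem exists_et_section {T W : Over S} (k : W ⟶ T) [Smooth k.left] [Surjective k.left] :
    ∃ (T' : Over S) (g : T' ⟶ T) (h : T' ⟶ W), Etale g.left ∧ Surjective g.left ∧ h ≫ k = g := by
  have h1 : ∀ t : T.left, ∃ (V : Over S) (g : V ⟶ T) (h : V ⟶ W), Etale g.left ∧ h ≫ k = g ∧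
      ∃ v : V.left, g.left v = t := by
    intro t
    obtain ⟨S', g, s', hg, hs', h, hh⟩ :=
      Groth.Agent.FlatA.EtaleSections.exists_section k.left t (k.left.surjective t)
    refine ⟨Over.mk (g ≫ T.hom), Over.homMk g rfl, Over.homMk h ?_, hg, ?_, s', hs'⟩
    · rw [← Over.w k, ← Category.assoc, hh]; rfl
    · ext
      exact hh
  choose V g h he hk v hv using h1
  refine ⟨sig V, sigDesc g, sigDesc h, ?_, ?_, ?_⟩
  · exact IsZariskiLocalAtSource.sigmaDesc (P := @Etale) he
  · refine ⟨fun t => ⟨(sigι V t).left (v t), ?_⟩⟩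
    rw [← Scheme.Hom.comp_apply, ← Over.comp_left, sigι_desc]
    exact hv t
  · refine sig_hom_ext fun i => ?_
    rw [← Category.assoc, sigι_desc, sigι_desc, hk]

theorem exists_smC {F' : Sp S} (hF' : IsAlgSpace F') {T : Over S} (q : F' ⟶ (yon S).obj T)
    (hs : IsSurjectiveMor q) (hf : LocP @Smooth q) :
    ∃ (U : Over S) (p : (yon S).obj U ⟶ F') (c : U ⟶ T), p ≫ q = (yon S).map c ∧ Smooth c.left ∧
      Surjective c.left := by
  obtain ⟨U, p, h₁, h₂⟩ := hF'.atlas
  obtain ⟨c, hc⟩ := (yon S).map_surjective (p ≫ q)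
  have hid : RepWith @Etale (𝟙 ((yon S).obj T)) := repWith_id _ T
  refine ⟨U, p, c, hc.symm, ?_, ?_⟩
  · exact hf p (𝟙 _) c h₁ hid (by rw [Category.comp_id, hc])
  · rw [← repWith_yon_map_iff @Surjective c, K596.Pts.repWith_surjective_iff (representable_of_yon _), hc]
    have := K596.Pts.surjective_of_repWith h₂
    exact (funext fun x => Points.map_comp p q x : Points.map (p ≫ q) = _) ▸ hs.comp this

variable {F : PSp S} {X : Sp S} {p : X.obj ⟶ F}

/-- Sections lift etale locally. -/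
theorem exists_lift (h2 : RepBySpWith (IsSurjectiveMor ⊓ LocP @Smooth) p) {T : Over S} (x : F.obj (op T)) :
    ∃ (T' : Over S) (g : T' ⟶ T) (a : X.obj.obj (op T')), Etale g.left ∧ Surjective g.left ∧
      p.app (op T') a = F.map g.op x := by
  have sq := IsPullback.of_hasPullback p (ofSect x)
  obtain ⟨hE, hEA, hs, hsm⟩ := h2 (ofSect x) _ _ sq
  obtain ⟨W, w, c, hwc, hc, hc'⟩ := exists_smC hEA _ hs hsm
  obtain ⟨T', g, h, hg, hg', hh⟩ := exists_et_section c
  refine ⟨T', g, (pullback.fst p (ofSect x)).app (op T') (w.hom.app (op T') ⟨h⟩), hg, hg', ?_⟩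
  obtain ⟨e0, -, -⟩ := (isPullback_iff_app _ _ _ _).1 sq
  rw [e0]
  have : (pullback.snd p (ofSect x)).app (op T') (w.hom.app (op T') ⟨h⟩) = ⟨g⟩ := by
    have := congrArg (fun k : (yon S).obj W ⟶ (yon S).obj T => k.hom.app (op T') ⟨h⟩) hwc
    exact this.trans (congrArg ULift.up hh)
  rw [this, ofSect_app]

/-- Injectivity of the unit. -/
theorem injective_η (h1 : Presheaf.IsSheaf (QuotSh.J Scheme.etalePrecoverage S) F)
    (h2 : RepBySpWith (IsSurjectiveMor ⊓ LocP @Smooth) p) {T : Over S} (x y : F.obj (op T))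
    (h : (η F).app (op T) x = (η F).app (op T) y) : x = y := by
  obtain ⟨T', g, a, hg1, hg2, ha⟩ := exists_lift h2 x
  apply et_ext h1 g
  obtain ⟨T'', g', b, hg1', hg2', hb⟩ := exists_lift h2 (F.map g.op y)
  apply et_ext h1 g'
  rw [← ha, ← hb, ← NatTrans.naturality_apply]
  have h' : (η F).app (op T'') (p.app (op T'') (X.obj.map g'.op a)) = (η F).app (op T'') (p.app (op T'') b) := by
    rw [NatTrans.naturality_apply, ha, hb, η_map, η_map, η_map, η_map, h]
  generalize X.obj.map g'.op a = a' at h'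
  obtain ⟨κ, Z, z, hz, hR⟩ := exists_fam_of_mem (Presheaf.equalizerSieve_mem (J S) (η F) _ _ h')
  have hR' : ∀ k, F.map (z k).op (p.app (op T'') a') = F.map (z k).op (p.app (op T'') b) := fun k => hR k
  have sq := IsPullback.of_hasPullback p (ofSect (p.app (op T'') a'))
  obtain ⟨hE, -⟩ := h2 _ _ _ sq
  obtain ⟨e0, e1, e2⟩ := (isPullback_iff_app _ _ _ _).1 sq
  have key : ∀ k, ∃ w : (pullback p (ofSect (p.app (op T'') a'))).obj (op (Z k)),
      (pullback.fst p (ofSect (p.app (op T'') a'))).app _ w = X.obj.map (z k).op b ∧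
      (pullback.snd p (ofSect (p.app (op T'') a'))).app _ w = ⟨z k⟩ := fun k => by
    refine e2 _ _ _ ?_
    rw [ofSect_app, hR' k, ← NatTrans.naturality_apply]
  choose w hw1 hw2 using key
  obtain ⟨t, ht, -⟩ := hz.glue (⟨pullback p (ofSect (p.app (op T'') a')), hE⟩ : Sp S) w (fun i j Z' c d hcd => by
    refine e1 _ _ _ ?_ ?_
    · rw [NatTrans.naturality_apply, NatTrans.naturality_apply, hw1, hw1]
      rw [← K594.Elem.map_comp_apply, ← K594.Elem.map_comp_apply, hcd]
    · rw [NatTrans.naturality_apply, NatTrans.naturality_apply, hw2, hw2]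
      exact congrArg ULift.up hcd)
  have t1 : (pullback.fst p (ofSect (p.app (op T'') a'))).app _ t = b := by
    refine hz.ext X fun k => ?_
    rw [← NatTrans.naturality_apply]
    exact (congrArg _ (ht k)).trans (hw1 k)
  have t2 : (pullback.snd p (ofSect (p.app (op T'') a'))).app _ t = ⟨𝟙 T''⟩ := by
    refine hz.ext ((yon S).obj T'') fun k => ?_
    refine ((NatTrans.naturality_apply (pullback.snd p (ofSect (p.app (op T'') a'))) (z k).op t).symm.trans
      (congrArg _ (ht k))).trans ((hw2 k).trans ?_)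
    exact congrArg ULift.up (Category.comp_id (z k)).symm
  have e3 := e0 _ t
  rw [t1, t2, ofSect_app, map_id'] at e3
  exact e3.symm

/-- The map to the sheafification. -/
noncomputable def pa (p : X.obj ⟶ F) : X ⟶ Fa F := ObjectProperty.homMk (p ≫ η F)

theorem pa_app {T : Over S} (x : X.obj.obj (op T)) : (pa p).hom.app (op T) x = (η F).app (op T) (p.app (op T) x) := rfl

theorem isAlgSpaceP_and_locP {P : MorphismProperty Scheme.{u}} (hP : K597.EtLoc P) {Y : Sp S}
    (hp : RepBySpWith (LocP P) p) (hY : IsAlgSpace Y) {g : Y.obj ⟶ F} {Z : Sp S} {fst : Z ⟶ X} {snd : Z ⟶ Y}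
    (sq : IsPullback fst.hom snd.hom p g) : IsAlgSpace Z ∧ LocP P snd := by
  have hZ : IsAlgSpace Z := (isAlgSpaceP_obj_iff Z).1
    (K606.RepBySp.isAlgSpaceP_of_isPullback sq hp.repBySp ((isAlgSpaceP_obj_iff Y).2 hY))
  refine ⟨hZ, ?_⟩
  obtain ⟨V, v, hv, hvs⟩ := hY.atlas
  have sq1 := IsPullback.of_hasPullback snd v
  have sq2 := (sq1.map (sheafToPresheaf (J S) (Type (u + 1)))).paste_horiz sq
  obtain ⟨h0, h1, h2⟩ := hp _ _ _ sq2
  exact K597.locP_of_target hP sq1 hZ.hasAtlas (IsAlgSpace.yon_obj V).hasAtlas hv hvs h2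

theorem fSurj_pa (h2 : RepBySpWith (IsSurjectiveMor ⊓ LocP @Smooth) p) : K613.Cover.FSurj (pa p) := by
  have h3 : Presheaf.IsLocallySurjective (J S) (η F) := inferInstance
  have h4 : Sheaf.IsLocallySurjective (pa p) := by
    constructor
    intro T y
    refine (J S).transitive (h3.imageSieve_mem y) _ ?_
    intro Z z hz
    obtain ⟨x, hx⟩ := hz
    obtain ⟨V, g, a, hg1, hg2, ha⟩ := exists_lift h2 x
    have hm : Sieve.ofArrows (fun _ : PUnit.{u + 1} => V) (fun _ => g) ∈ J S Z :=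
      Cov.fam (g := g) ⟨inferInstance, inferInstance, hg2⟩ |>.mem
    refine (J S).superset_covering ?_ hm
    rw [Sieve.ofArrows, Sieve.generate_le_iff]
    rintro _ _ ⟨⟩
    refine ⟨a, ?_⟩
    refine (pa_app a).trans ?_
    rw [ha, η_map, hx]
    exact (K594.Elem.map_comp_apply (Fa F) z g y).symm
  intro T g
  obtain ⟨T', c, x, hc, hx⟩ := (isLocallySurjective_iff (pa p)).1 h4 T (K594.Elem.secEquiv g)
  refine ⟨T', c, K594.Elem.secEquiv.symm x, ⟨hc.flat, hc.lfp, hc.surj⟩, ?_⟩
  apply K594.Elem.hom_ext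
  rintro Z ⟨z⟩
  rw [K594.Elem.comp_app, K594.Elem.comp_app, K594.Elem.yonEquiv_symm_apply, K594.Elem.app_map, hx,
    ← K594.Elem.map_comp_apply]
  exact (K594.Elem.yonEquiv_apply g (z ≫ c)).symm

theorem isPullback_η (h1 : Presheaf.IsSheaf (QuotSh.J Scheme.etalePrecoverage S) F)
    (h2 : RepBySpWith (IsSurjectiveMor ⊓ LocP @Smooth) p) {A B C : PSp S} {a : A ⟶ B} {b : A ⟶ C} {f : B ⟶ F}
    {g : C ⟶ F} (sq : IsPullback a b (f ≫ η F) (g ≫ η F)) : IsPullback a b f g := by
  obtain ⟨e0, e1, e2⟩ := (isPullback_iff_app _ _ _ _).1 sq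
  refine (isPullback_iff_app _ _ _ _).2 ⟨fun T x => ?_, e1, fun T x y hxy => ?_⟩
  · exact injective_η h1 h2 _ _ (e0 T x)
  · exact e2 T x y (congrArg ((η F).app (op T)) hxy)

theorem rep_mono {Q Q' : MorphismProperty (Sp S)} {p : X.obj ⟶ F} (h : RepBySpWith Q p)
    (hQ : ∀ {T : Over S} {F' : Sp S} (q : F' ⟶ (yon S).obj T), IsAlgSpace F' → Q q → Q' q) :
    RepBySpWith Q' p := by
  intro T ξ F' fst snd sq
  obtain ⟨h0, h1, h2⟩ := h ξ fst snd sq
  exact ⟨h0, h1, hQ _ h1 h2⟩

theorem locP_lft_of_smooth {A B : Sp S} {f : A ⟶ B} (h : LocP @Smooth f) : LocP @LocallyOfFiniteType f :=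
  fun U V a b k ha hb w => by
    have : Smooth k.left := h a b k ha hb w
    infer_instance

/-- The diagonal of the sheafification is representable. -/
theorem representable_diag (hX : IsAlgSpace X) (h1 : Presheaf.IsSheaf (QuotSh.J Scheme.etalePrecoverage S) F)
    (h2 : RepBySpWith (IsSurjectiveMor ⊓ LocP @Smooth) p) : Representable (Limits.diag (Fa F)) := by
  have hp := fSurj_pa h2
  have sq0 := IsPullback.of_hasPullback (pa p) (pa p)
  have hp' : RepBySpWith (LocP @LocallyOfFiniteType) p := rep_mono h2 fun _ _ h => locP_lft_of_smooth h.2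
  obtain ⟨hE, hl⟩ := isAlgSpaceP_and_locP K597.etLoc_lft hp' hX
    (isPullback_η h1 h2 (sq0.map (sheafToPresheaf (J S) (Type (u + 1)))))
  have sq := K595.DiagAlg.isPullback_diag_prodMap sq0
  have hm : Mono (prod.lift (pullback.fst (pa p) (pa p)) (pullback.snd (pa p) (pa p))) :=
    (MorphismProperty.monomorphisms (Sp S)).of_isPullback sq (inferInstanceAs (Mono (Limits.diag (Fa F))))
  have hXX := K606.Boot.isAlgSpace_prod hX hX
  have hlft : LocP @LocallyOfFiniteType (prod.lift (pullback.fst (pa p) (pa p)) (pullback.snd (pa p) (pa p))) := by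
    refine K597.locP_of_comp' K597.etLoc_lft (g := prod.snd) ?_ hE.hasAtlas hXX.hasAtlas hX.hasAtlas ?_
    · intro A B C f g h
      exact locallyOfFiniteType_of_comp f g
    · rw [prod.lift_snd]; exact hl
  exact (K606.SepLqf.repWith_of_fSurj sq (K606.Boot.fSurj_prodMap hp hp)
    (K606.Boot.repWith_sepLqf_of_mono (sepLqfSch S) hE hXX _ hlft)).1

/-- The sheafification is an algebraic space, with a smooth surjective chart through `p`. -/
theorem isAlgSpace_Fa (hX : IsAlgSpace X) (h1 : Presheaf.IsSheaf (QuotSh.J Scheme.etalePrecoverage S) F)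
    (h2 : RepBySpWith (IsSurjectiveMor ⊓ LocP @Smooth) p) :
    IsAlgSpace (Fa F) ∧ ∃ (V : Over S) (a : (yon S).obj V ⟶ X), RepWith @Smooth (a ≫ pa p) ∧
      RepWith @Surjective (a ≫ pa p) := by
  have hd := representable_diag hX h1 h2
  obtain ⟨V, a, ha, has⟩ := hX.atlas
  have hrep : Representable (a ≫ pa p) := Functor.relativelyRepresentable.of_diag hd _
  have hq : K613.Cover.FSurj (a ≫ pa p) := (fSurj_pa h2).comp (K613.Cover.ESurj.of_repWith ha has).fSurj
  obtain ⟨R, t, fst, sq⟩ := hrep (a ≫ pa p)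
  have sqP := IsPullback.of_hasPullback (pa p) (a ≫ pa p)
  have sqP' : IsPullback (pullback.fst (pa p) (a ≫ pa p)).hom (pullback.snd (pa p) (a ≫ pa p)).hom p
      (a.hom ≫ p) := by
    refine isPullback_η h1 h2 ?_
    rw [Category.assoc]
    exact sqP.map (sheafToPresheaf (J S) (Type (u + 1)))
  obtain ⟨h0, h3, h4, h5⟩ := h2 _ _ _ sqP'
  let φ : (yon S).obj R ⟶ pullback (pa p) (a ≫ pa p) := pullback.lift (fst ≫ a) ((yon S).map t) (by
    rw [Category.assoc, sq.w])
  have hφ : φ ≫ pullback.snd (pa p) (a ≫ pa p) = (yon S).map t := pullback.lift_snd _ _ _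
  have sq2 : IsPullback fst φ a (pullback.fst (pa p) (a ≫ pa p)) := by
    refine IsPullback.of_bot ?_ (pullback.lift_fst _ _ _).symm sqP
    rw [hφ]
    exact sq
  have he : RepWith @Etale φ := K597.repWith_bc _ sq2 ha
  have hs : RepWith @Surjective φ := K597.repWith_bc _ sq2 has
  have hid : RepWith @Etale (𝟙 ((yon S).obj V)) := repWith_id _ V
  have t1 : Smooth t.left := h5 φ (𝟙 _) t he hid (by rw [Category.comp_id]; exact hφ)
  have t2 : RepWith @Surjective ((yon S).map t) := by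
    rw [K596.Pts.repWith_surjective_iff (representable_of_yon _), ← hφ]
    exact (funext fun x => Points.map_comp φ _ x : Points.map (φ ≫ pullback.snd (pa p) (a ≫ pa p)) = _) ▸
      h4.comp (K596.Pts.surjective_of_repWith hs)
  have hls : Sheaf.IsLocallySurjective (a ≫ pa p) := by
    rw [isLocallySurjective_iff]
    intro T y
    obtain ⟨T', c, h, hc, hh⟩ := hq T (K594.Elem.secEquiv.symm y)
    refine ⟨T', c, K594.Elem.secEquiv h, ⟨hc.flat, hc.lfp, hc.surj⟩, ?_⟩
    have h8 := congrArg (fun k : (yon S).obj T' ⟶ Fa F => k.hom.app (op T') ⟨𝟙 T'⟩) hh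
    have h9 : h.hom.app (op T') ⟨𝟙 T'⟩ = K594.Elem.secEquiv h := by
      rw [K594.Elem.yonEquiv_apply, op_id]
      exact K594.Elem.map_id_apply _ _
    rw [← h9]
    refine h8.trans ?_
    change (K594.Elem.secEquiv.symm y).hom.app (op T') ⟨𝟙 T' ≫ c⟩ = _
    rw [Category.id_comp, K594.Elem.yonEquiv_symm_apply]
  have i1 := K594.Local.smooth.{u}
  have i2 := K594.Local.surjective.{u}
  have h6 : RepWith @Smooth (a ≫ pa p) :=
    K594.Basic.repWith_of_isLocallySurjective_base _ hrep (a ≫ pa p) sq @Smooth ((repWith_yon_map_iff _ _).2 t1)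
  have h7 : RepWith @Surjective (a ≫ pa p) :=
    K594.Basic.repWith_of_isLocallySurjective_base _ hrep (a ≫ pa p) sq @Surjective t2
  refine ⟨?_, V, a, h6, h7⟩
  refine K607.Slice.isAlgSpace_of_fppf_chart hd (a ≫ pa p) ?_ ?_ h7
  · exact K597.repWith_mono (fun _ _ f h => by have : Smooth f := h; exact inferInstanceAs (Flat f)) h6
  · exact K597.repWith_mono (fun _ _ f h => by
      have : Smooth f := h; exact inferInstanceAs (LocallyOfFinitePresentation f)) h6

theorem bijective_η (hX : IsAlgSpace X) (h1 : Presheaf.IsSheaf (QuotSh.J Scheme.etalePrecoverage S) F)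
    (h2 : RepBySpWith (IsSurjectiveMor ⊓ LocP @Smooth) p) (T : Over S) : Function.Bijective ((η F).app (op T)) := by
  refine ⟨fun x y h => injective_η h1 h2 x y h, fun y => ?_⟩
  obtain ⟨-, W, a, he, hsur⟩ := isAlgSpace_Fa hX h1 h2
  obtain ⟨V₀, g₀, k₀, sq₀⟩ := he.1 (K594.Elem.secEquiv.symm y)
  have hg1₀ : Smooth g₀.left := he.2 _ _ _ sq₀
  have hg2₀ : Surjective g₀.left := hsur.2 _ _ _ sq₀
  obtain ⟨V, g, h, hg1, hg2, hg⟩ := exists_et_section g₀
  have e : ∃ v : F.obj (op V), (η F).app (op V) v = (Fa F).obj.map g.op y := by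
    refine ⟨p.app (op V) ((k₀ ≫ a).hom.app (op V) ⟨h⟩), ?_⟩
    have := congrArg (fun k : (yon S).obj V₀ ⟶ Fa F => k.hom.app (op V) ⟨h⟩) sq₀.w
    refine Eq.trans this ?_
    change (K594.Elem.secEquiv.symm y).hom.app (op V) ⟨h ≫ g₀⟩ = _
    rw [hg, K594.Elem.yonEquiv_symm_apply]
  obtain ⟨v, e⟩ := e
  obtain ⟨t, ht, -⟩ := et_glue h1 g v (fun Z a b hab => by
    apply injective_η h1 h2
    rw [η_map a, η_map b, e, ← K594.Elem.map_comp_apply, ← K594.Elem.map_comp_apply, hab])
  refine ⟨t, ?_⟩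
  refine Cov.ext (g := g) ⟨inferInstance, inferInstance, hg2⟩ (Fa F) ?_
  rw [← η_map, ht, e]

/-- An etale sheaf with a smooth surjective map from an algebraic space, representable by algebraic spaces, is an
algebraic space. -/
theorem isAlgSpaceP_of_smooth (hX : IsAlgSpace X) (h1 : Presheaf.IsSheaf (QuotSh.J Scheme.etalePrecoverage S) F)
    (h2 : RepBySpWith (IsSurjectiveMor ⊓ LocP @Smooth) p) : IsAlgSpaceP F := by
  have : IsIso (η F) := by
    rw [NatTrans.isIso_iff_isIso_app]
    rintro ⟨T⟩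
    rw [isIso_iff_bijective]
    exact bijective_η hX h1 h2 T
  exact ((isAlgSpaceP_obj_iff (Fa F)).2 (isAlgSpace_Fa hX h1 h2).1).of_iso (asIso (η F)).symm

end K597.SmSheaf
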