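import Groth.Agent.AlgSp.K597.Affine
import Groth.Agent.AlgSp.K598.RepKit

/-!
# Subspaces of a sheaf from invariant subschemes of a chart

`p : h_U ⟶ X` representable etale surjective, `c : C ⟶ U` a monomorphism of schemes over `S` which is invariant
(`Inv p c`): then there is a subsheaf `sub p c ⟶ X` with `sub ×_X U = C` (`isPullback_sub`), which is representable with
every property of `c` that is stable under base change, Zariski local on the target, descends along fppf coverings, and
forces compact opens to be quasi-affine over affine bases (`repWith_sub`).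
-/

set_option autoImplicit false
set_option backward.isDefEq.respectTransparency false
set_option backward.isDefEq.respectTransparency.types false
universe u
open CategoryTheory CategoryTheory.Limits AlgebraicGeometry Opposite AlgSp

namespace K597.SubChart

open K594.Elem K594.Cover K597.FibF K597.EffDesc K597.Affine K598.Site K598.RepKit

variable {S : Scheme.{u}} {X : Sp S} {C U : Over S}

/-- Factorisation through a monomorphism of schemes is local for the fppf topology. -/
theorem factors_of_sieve {T : Over S} (c : C ⟶ U) [Mono c] (t : T ⟶ U) {R : Sieve T} (hR : R ∈ J S T)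
    (h : ∀ (T' : Over S) (φ : T' ⟶ T), R φ → ∃ k : T' ⟶ C, k ≫ c = φ ≫ t) : ∃ k : T ⟶ C, k ≫ c = t := by
  choose k hk using h
  have hF := ((isSheaf_iff_isSheaf_of_type (J S) ((yon S).obj C).obj).1 ((yon S).obj C).property) R hR
  let x : Presieve.FamilyOfElements ((yon S).obj C).obj R.arrows := fun T' φ hφ => ⟨k T' φ hφ⟩
  have hx : x.Compatible := by
    rw [Presieve.compatible_iff_sieveCompatible]
    intro T' T'' φ ψ hφ
    apply ULift.down_injective
    change k T'' (ψ ≫ φ) _ = ψ ≫ k T' φ hφ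
    rw [← cancel_mono c, hk, Category.assoc, Category.assoc, hk]
  obtain ⟨y, hy, -⟩ := hF x hx
  refine ⟨y.down, ?_⟩
  apply (yon S).map_injective
  refine hom_ext_sieve hR fun T' φ hφ => ?_
  rw [← Functor.map_comp, ← Functor.map_comp]
  congr 1
  have h1 := congrArg ULift.down (hy φ hφ)
  change φ ≫ y.down = k T' φ hφ at h1
  rw [← Category.assoc, h1, hk]

/-- `C ⟶ U` is invariant for the relation defined by `p : h_U ⟶ X`. -/
def Inv (p : (yon S).obj U ⟶ X) (c : C ⟶ U) : Prop :=
  ∀ ⦃T : Over S⦄ (s t : T ⟶ U), (yon S).map s ≫ p = (yon S).map t ≫ p → (∃ k, k ≫ c = s) → ∃ k, k ≫ c = t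

variable (p : (yon S).obj U ⟶ X) (c : C ⟶ U) [Mono c]

/-- The subsheaf of `X` of sections whose lifts to `U` lie in `C`. -/
def subQ : SubQ X where
  Q {T} g := ∀ (T' : Over S) (φ : T' ⟶ T) (t : T' ⟶ U), (yon S).map φ ≫ g = (yon S).map t ≫ p → ∃ k, k ≫ c = t
  comp {T T'} φ g h T'' ψ t ht := h T'' (ψ ≫ φ) t (by rw [Functor.map_comp, Category.assoc, ht])
  loc {T} g R hR h T' φ t ht := by
    refine factors_of_sieve c t (R := R.pullback φ) ((J S).pullback_stable φ hR) fun T'' ψ hψ => ?_
    refine h T'' (ψ ≫ φ) hψ T'' (𝟙 _) (ψ ≫ t) ?_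
    rw [(yon S).map_id, Category.id_comp, Functor.map_comp, Functor.map_comp, Category.assoc, ht, Category.assoc]

/-- The subspace of `X` defined by the invariant `C ⟶ U`. -/
def sub : Sp S := (subQ p c).sheaf

/-- Its inclusion. -/
def ι : sub p c ⟶ X := (subQ p c).ι

instance mono_ι : Mono (ι p c) := (subQ p c).mono_ι

variable {p c}

theorem q_iff (h : Inv p c) {T : Over S} (t : T ⟶ U) : (subQ p c).Q ((yon S).map t ≫ p) ↔ ∃ k, k ≫ c = t := by
  constructor
  · intro h'
    exact h' T (𝟙 _) t (by rw [(yon S).map_id, Category.id_comp])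
  · intro h' T' φ t' ht'
    rw [← Category.assoc, ← Functor.map_comp] at ht'
    obtain ⟨k, rfl⟩ := h'
    exact h _ _ ht' ⟨φ ≫ k, by rw [Category.assoc]⟩

theorem factors_iff (h : Inv p c) {T : Over S} (t : T ⟶ U) :
    (∃ k, k ≫ ι p c = (yon S).map t ≫ p) ↔ ∃ k, k ≫ c = t := by
  rw [← q_iff h]
  exact (subQ p c).factors_yon_iff _

/-- The pullback of the subspace to `U` is `C`. -/
theorem isPullback_sub (h : Inv p c) :
    ∃ q : (yon S).obj C ⟶ sub p c, IsPullback q ((yon S).map c) (ι p c) p := by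
  obtain ⟨q, hq⟩ := (factors_iff h c).2 ⟨𝟙 _, Category.id_comp _⟩
  refine ⟨q, isPullback_of_mono_test hq fun T b hb => ?_⟩
  obtain ⟨t, rfl⟩ := (yon S).map_surjective b
  obtain ⟨k, rfl⟩ := (factors_iff h t).1 hb
  exact ⟨(yon S).map k, by rw [← Functor.map_comp]⟩

/-- The subspace has the property of `C ⟶ U`. -/
theorem repWith_of_isPullback_chart (P : MorphismProperty Scheme.{u}) [P.IsStableUnderBaseChange]
    [IsZariskiLocalAtTarget P] [P.DescendsAlong Fppf.{u}]
    (hqa : ∀ ⦃W V : Scheme.{u}⦄ (w : W ⟶ V), P w → IsAffine V → ∀ O : W.Opens, IsCompact (O : Set W) →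
      (O : Scheme.{u}).IsQuasiAffine)
    {Z F' G' : Sp S} {f : Z ⟶ X} {g : G' ⟶ X} {g' : F' ⟶ Z} {f' : F' ⟶ G'}
    (sq : IsPullback g' f' f g) (hg : RepWith @Etale g) (hgs : RepWith @Surjective g)
    (h : RepWith P f') : RepWith P f := by
  refine repWith_of_etale_local _ fun U y t => ?_
  obtain ⟨V, v, y₀, hV, hv, ht, hy⟩ := exists_local_lift hg hgs U y t
  obtain ⟨W, w, ξ, h', hW⟩ := RepWith.exists_isRep h y₀
  have h2 := isRep_of_bc sq h'
  rw [hy] at h2
  exact ⟨V, v, W, w, _, hv, ht, h2, hW, hqa _ hW hV⟩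

theorem repWith_sub (P : MorphismProperty Scheme.{u}) [P.IsStableUnderBaseChange]
    [IsZariskiLocalAtTarget P] [P.DescendsAlong Fppf.{u}]
    (hqa : ∀ ⦃W V : Scheme.{u}⦄ (w : W ⟶ V), P w → IsAffine V → ∀ O : W.Opens, IsCompact (O : Set W) →
      (O : Scheme.{u}).IsQuasiAffine)
    (h : Inv p c) (hp : RepWith @Etale p) (hps : RepWith @Surjective p) (hc : P c.left) :
    RepWith P (ι p c) := by
  obtain ⟨q, sq⟩ := isPullback_sub h
  exact repWith_of_isPullback_chart P hqa sq hp hps ((repWith_yon_map_iff _ _).2 hc)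

/-- The quasi-affineness condition for immersions. -/
theorem isQuasiAffine_of_immersion {W V : Scheme.{u}} (w : W ⟶ V) [IsImmersion w] [IsAffine V] (O : W.Opens)
    (hO : IsCompact (O : Set W)) : (O : Scheme.{u}).IsQuasiAffine := by
  have : CompactSpace O := isCompact_iff_compactSpace.1 hO
  exact Scheme.IsQuasiAffine.of_isImmersion (O.ι ≫ w)

theorem hqa_closed ⦃W V : Scheme.{u}⦄ (w : W ⟶ V) (hw : IsClosedImmersion w) (_ : IsAffine V) (O : W.Opens)
    (hO : IsCompact (O : Set W)) : (O : Scheme.{u}).IsQuasiAffine := isQuasiAffine_of_immersion w O hO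

theorem hqa_open ⦃W V : Scheme.{u}⦄ (w : W ⟶ V) (hw : IsOpenImmersion w) (_ : IsAffine V) (O : W.Opens)
    (hO : IsCompact (O : Set W)) : (O : Scheme.{u}).IsQuasiAffine := isQuasiAffine_of_immersion w O hO

theorem hqa_immersion ⦃W V : Scheme.{u}⦄ (w : W ⟶ V) (hw : IsImmersion w) (_ : IsAffine V) (O : W.Opens)
    (hO : IsCompact (O : Set W)) : (O : Scheme.{u}).IsQuasiAffine := isQuasiAffine_of_immersion w O hO

end K597.SubChart
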