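import Groth.Agent.AlgSp.K594.Cover
import Groth.Agent.AlgSp.K606.PshBasic
import Mathlib.AlgebraicGeometry.Morphisms.FlatMono

/-!
# Zariski sheaves covered fppf locally by fppf subsheaves

`F` a Zariski sheaf, `m i : Fi i ⟶ F` monomorphisms from fppf sheaves, representable by algebraic spaces (only: the
fibre products with schemes are fppf sheaves) which cover `F` fppf locally; then `F` is an fppf sheaf.
-/

set_option autoImplicit false
set_option backward.isDefEq.respectTransparency false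
set_option backward.isDefEq.respectTransparency.types false
universe u v
open CategoryTheory CategoryTheory.Limits AlgebraicGeometry Opposite AlgSp

namespace K597.ZarFppf

open K594.Cover K606.PshBasic

variable {S : Scheme.{u}} {F : PSp S}

theorem map_comp' {T T' T'' : Over S} (g : T' ⟶ T) (h : T'' ⟶ T') (x : F.obj (op T)) :
    F.map (h ≫ g).op x = F.map h.op (F.map g.op x) := by
  rw [op_comp, F.map_comp]; rfl

theorem map_id' {T : Over S} (x : F.obj (op T)) : F.map (𝟙 T).op x = x := by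
  rw [op_id, F.map_id]; rfl

/-- Zariski covering families over `S` -/
structure Zar {T : Over S} {ι : Type u} {V : ι → Over S} (g : ∀ i, V i ⟶ T) : Prop where
  opn : ∀ i, IsOpenImmersion (g i).left
  surj : ∀ t : T.left, ∃ (i : ι) (v : (V i).left), (g i).left v = t

theorem Zar.mem {T : Over S} {ι : Type u} {V : ι → Over S} {g : ∀ i, V i ⟶ T} (h : Zar g) :
    Sieve.ofArrows V g ∈ QuotSh.J Scheme.zariskiPrecoverage S T := by
  rw [GrothendieckTopology.mem_over_iff, Sieve.overEquiv_ofArrows]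
  refine Precoverage.generate_mem_toGrothendieck ?_
  change _ ∈ Scheme.precoverage _ T.left
  rw [Scheme.ofArrows_mem_precoverage_iff]
  exact ⟨fun t => h.surj t, fun i => h.opn i⟩

theorem Zar.glue (h1 : Presheaf.IsSheaf (QuotSh.J Scheme.zariskiPrecoverage S) F) {T : Over S} {ι : Type u}
    {V : ι → Over S} {g : ∀ i, V i ⟶ T} (h : Zar g) (x : ∀ i, F.obj (op (V i)))
    (hx : ∀ (i j : ι) (Z : Over S) (a : Z ⟶ V i) (b : Z ⟶ V j), a ≫ g i = b ≫ g j →
      F.map a.op (x i) = F.map b.op (x j)) :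
    ∃! t : F.obj (op T), ∀ i, F.map (g i).op t = x i := by
  rw [isSheaf_iff_isSheaf_of_type] at h1
  have h2 := h1 _ h.mem
  rw [Sieve.ofArrows, ← Presieve.isSheafFor_iff_generate, Presieve.isSheafFor_arrows_iff] at h2
  exact h2 x hx

theorem Zar.ext (h1 : Presheaf.IsSheaf (QuotSh.J Scheme.zariskiPrecoverage S) F) {T : Over S} {ι : Type u}
    {V : ι → Over S} {g : ∀ i, V i ⟶ T} (h : Zar g) {a b : F.obj (op T)}
    (hab : ∀ i, F.map (g i).op a = F.map (g i).op b) : a = b := by
  obtain ⟨t, ht, hu⟩ := h.glue h1 (fun i => F.map (g i).op b) (fun i j Z p q hpq => by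
    rw [← map_comp', ← map_comp', hpq])
  rw [hu a hab, hu b (fun _ => rfl)]

/-- the image of a flat locally finitely presented morphism -/
theorem exists_image {T T' : Over S} (g : T' ⟶ T) [Flat g.left] [LocallyOfFinitePresentation g.left] :
    ∃ (V : Over S) (j : V ⟶ T) (g' : T' ⟶ V), g' ≫ j = g ∧ IsOpenImmersion j.left ∧ Cov g' := by
  let W : T.left.Opens := ⟨Set.range g.left, g.left.isOpenMap.isOpen_range⟩
  let k : T'.left ⟶ W.toScheme := IsOpenImmersion.lift W.ι g.left (by
    rw [Scheme.Opens.range_ι]; rfl)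
  have hk : k ≫ W.ι = g.left := IsOpenImmersion.lift_fac _ _ _
  refine ⟨Over.mk (W.ι ≫ T.hom), Over.homMk W.ι rfl, Over.homMk k (by
    change k ≫ W.ι ≫ T.hom = T'.hom
    rw [← Category.assoc, hk, Over.w g]), ?_, inferInstanceAs (IsOpenImmersion W.ι), ?_⟩
  · apply Over.OverMorphism.ext
    exact hk
  · have h1 : Flat k := MorphismProperty.of_postcomp (W := @Flat) (W' := @IsOpenImmersion) k W.ι inferInstance
      (by rw [hk]; infer_instance)
    have h2 : LocallyOfFinitePresentation k :=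
      MorphismProperty.of_postcomp (W := @LocallyOfFinitePresentation) (W' := @IsOpenImmersion) k W.ι inferInstance
        (by rw [hk]; infer_instance)
    refine ⟨h1, h2, ⟨fun w => ?_⟩⟩
    obtain ⟨t, ht⟩ : (W.ι w) ∈ Set.range g.left := w.2
    refine ⟨t, W.ι.isOpenEmbedding.injective ?_⟩
    change W.ι (k t) = W.ι w
    rw [← ht, ← hk]
    rfl

theorem injective_app {G : PSp S} (m : G ⟶ F) [Mono m] (T : Over S) : Function.Injective (m.app (op T)) := by
  have := (NatTrans.mono_iff_mono_app m).1 inferInstance (op T)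
  exact (mono_iff_injective _).1 this

/-- A section which lies fppf locally in a subsheaf representable by algebraic spaces lies in it. -/
theorem mem_of_fam {G : PSp S} (m : G ⟶ F) [Mono m] (hb : RepBySp m) {T : Over S} {κ : Type u} {V : κ → Over S}
    {g : ∀ k, V k ⟶ T} (hg : Fam g) (x : F.obj (op T))
    (hx : ∀ k, F.map (g k).op x ∈ Set.range (m.app (op (V k)))) : x ∈ Set.range (m.app (op T)) := by
  have sq := IsPullback.of_hasPullback m (ofSect x)
  obtain ⟨hs, -⟩ := hb _ _ _ sq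
  obtain ⟨h0, h1, h2⟩ := (isPullback_iff_app _ _ _ _).1 sq
  choose y hy using hx
  have hz : ∀ k, ∃ z : (pullback m (ofSect x)).obj (op (V k)),
      (pullback.fst m (ofSect x)).app _ z = y k ∧ (pullback.snd m (ofSect x)).app _ z = ⟨g k⟩ := fun k =>
    h2 (V k) (y k) ⟨g k⟩ (by rw [ofSect_app, hy])
  choose z hz1 hz2 using hz
  obtain ⟨t, ht, -⟩ := hg.glue (⟨_, hs⟩ : Sp S) z (fun i j Z a b hab => by
    have e2 : (pullback.snd m (ofSect x)).app _ ((pullback m (ofSect x)).map a.op (z i)) =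
        (pullback.snd m (ofSect x)).app _ ((pullback m (ofSect x)).map b.op (z j)) := by
      rw [NatTrans.naturality_apply, NatTrans.naturality_apply, hz2, hz2]
      exact congrArg ULift.up hab
    refine h1 Z _ _ ?_ e2
    apply injective_app m Z
    rw [h0, h0]
    exact congrArg _ e2)
  obtain ⟨l, hl⟩ : ∃ l : T ⟶ T, (pullback.snd m (ofSect x)).app (op T) t = ⟨l⟩ := ⟨_, rfl⟩
  have hl' : l = 𝟙 T := by
    have := hg.ext ((yon S).obj T) (a := ⟨l⟩) (b := ⟨𝟙 T⟩) (fun k => by
      have e : ((pyon S).obj T).map (g k).op ((pullback.snd m (ofSect x)).app (op T) t) = ⟨g k⟩ := by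
        rw [← NatTrans.naturality_apply, ← hz2 k]
        exact congrArg _ (ht k)
      rw [hl] at e
      refine Eq.trans e ?_
      exact congrArg ULift.up (Category.comp_id (g k)).symm)
    exact congrArg ULift.down this
  refine ⟨(pullback.fst m (ofSect x)).app (op T) t, ?_⟩
  rw [h0, hl, ofSect_app, hl', map_id']

section

variable {ι : Type v} {Fi : ι → PSp S} (m : ∀ i, Fi i ⟶ F) [∀ i, Mono (m i)]
  (ha : ∀ i, Presheaf.IsSheaf (J S) (Fi i)) (hb : ∀ i, RepBySp (m i))

include hb in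
/-- Zariski locally every section lies in some `Fi`. -/
theorem exists_zar (hc : ∀ (T : Over S) (x : F.obj (op T)), ∃ R ∈ (J S) T,
      ∀ ⦃T' : Over S⦄ (f : T' ⟶ T), R.arrows f → ∃ i, F.map f.op x ∈ Set.range ((m i).app (op T')))
    {T : Over S} (x : F.obj (op T)) : ∃ (κ : Type u) (V : κ → Over S) (g : ∀ k, V k ⟶ T) (_ : Zar g) (i : κ → ι),
      ∀ k, F.map (g k).op x ∈ Set.range ((m (i k)).app (op (V k))) := by
  obtain ⟨R, hR, hR'⟩ := hc T x
  obtain ⟨κ, V, g, hg, hk⟩ := exists_fam_of_mem hR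
  have h1 : ∀ k, ∃ (W : Over S) (j : W ⟶ T) (g' : V k ⟶ W), g' ≫ j = g k ∧ IsOpenImmersion j.left ∧ Cov g' :=
    fun k => by
      have := hg.flat k
      have := hg.lfp k
      exact exists_image (g k)
  choose W j g' hj1 hj2 hj3 using h1
  choose i hi using fun k => hR' (g k) (hk k)
  refine ⟨κ, W, j, ⟨hj2, fun t => ?_⟩, i, fun k => ?_⟩
  · obtain ⟨k, v, hv⟩ := hg.surj t
    refine ⟨k, (g' k).left v, ?_⟩
    rw [← Scheme.Hom.comp_apply, ← Over.comp_left, hj1, hv]
  · refine mem_of_fam (m (i k)) (hb (i k)) (hj3 k).fam _ fun _ => ?_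
    rw [← map_comp', hj1]
    exact hi k

include ha hb in
/-- fppf separatedness. -/
theorem fam_ext (h1 : Presheaf.IsSheaf (QuotSh.J Scheme.zariskiPrecoverage S) F)
    (hc : ∀ (T : Over S) (x : F.obj (op T)), ∃ R ∈ (J S) T,
      ∀ ⦃T' : Over S⦄ (f : T' ⟶ T), R.arrows f → ∃ i, F.map f.op x ∈ Set.range ((m i).app (op T')))
    {T : Over S} {κ : Type u} {V : κ → Over S} {g : ∀ k, V k ⟶ T} (hg : Fam g) {x y : F.obj (op T)}
    (hxy : ∀ k, F.map (g k).op x = F.map (g k).op y) : x = y := by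
  obtain ⟨κ', W, j, hj, i, hi⟩ := exists_zar m hb hc x
  refine hj.ext h1 fun l => ?_
  -- the cover of `W l`
  let V' : κ → Over S := fun k => pullback (g k) (j l)
  have sq : ∀ k, IsPullback (pullback.fst (g k) (j l)) (pullback.snd (g k) (j l)) (g k) (j l) := fun k =>
    IsPullback.of_hasPullback _ _
  have sq' := fun k => (sq k).map (Over.forget S)
  have hg' : Fam (fun k => pullback.snd (g k) (j l)) :=
    { flat := fun k => MorphismProperty.of_isPullback (P := @Flat) (sq' k) (hg.flat k)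
      lfp := fun k => MorphismProperty.of_isPullback (P := @LocallyOfFinitePresentation) (sq' k) (hg.lfp k)
      surj := fun t => by
        obtain ⟨k, v, hv⟩ := hg.surj ((j l).left t)
        obtain ⟨w, -, hw⟩ := Scheme.exists_preimage_of_isPullback (sq' k) v t hv
        exact ⟨k, w, hw⟩ }
  obtain ⟨x', hx'⟩ := hi l
  have hy : F.map (j l).op y ∈ Set.range ((m (i l)).app (op (W l))) := by
    refine mem_of_fam (m (i l)) (hb (i l)) hg' _ fun k => ?_
    rw [← map_comp', ← (sq k).w, map_comp', ← hxy, ← map_comp', (sq k).w, map_comp', ← hx']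
    exact ⟨_, NatTrans.naturality_apply _ _ _⟩
  obtain ⟨y', hy'⟩ := hy
  rw [← hx', ← hy']
  congr 1
  refine hg'.ext (⟨_, ha (i l)⟩ : Sp S) fun k => ?_
  apply injective_app (m (i l))
  change (m (i l)).app _ ((Fi (i l)).map _ x') = (m (i l)).app _ ((Fi (i l)).map _ y')
  rw [NatTrans.naturality_apply, NatTrans.naturality_apply, hx', hy', ← map_comp', ← map_comp', ← (sq k).w, map_comp',
    map_comp', hxy]

omit [∀ i, Mono (m i)] in
/-- base change of a covering family -/
theorem fam_baseChange {T Z : Over S} {κ : Type u} {V : κ → Over S} {g : ∀ k, V k ⟶ T} (hg : Fam g) (f : Z ⟶ T) :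
    Fam (fun k => pullback.snd (g k) f) where
  flat k := MorphismProperty.of_isPullback (P := @Flat) ((IsPullback.of_hasPullback (g k) f).map (Over.forget S))
    (hg.flat k)
  lfp k := MorphismProperty.of_isPullback (P := @LocallyOfFinitePresentation)
    ((IsPullback.of_hasPullback (g k) f).map (Over.forget S)) (hg.lfp k)
  surj t := by
    obtain ⟨k, v, hv⟩ := hg.surj (f.left t)
    obtain ⟨w, -, hw⟩ := Scheme.exists_preimage_of_isPullback ((IsPullback.of_hasPullback (g k) f).map (Over.forget S))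
      v t hv
    exact ⟨k, w, hw⟩

include ha hb in
/-- Zariski sheaves covered fppf locally by fppf subsheaves representable by algebraic spaces are fppf sheaves. -/
theorem isSheaf (h1 : Presheaf.IsSheaf (QuotSh.J Scheme.zariskiPrecoverage S) F)
    (hc : ∀ (T : Over S) (x : F.obj (op T)), ∃ R ∈ (J S) T,
      ∀ ⦃T' : Over S⦄ (f : T' ⟶ T), R.arrows f → ∃ i, F.map f.op x ∈ Set.range ((m i).app (op T'))) :
    Presheaf.IsSheaf (J S) F := by
  rw [isSheaf_iff_isSheaf_of_type]
  intro T R hR x hx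
  obtain ⟨κ₀, V₀, g₀, hg₀, hk₀⟩ := exists_fam_of_mem hR
  -- refine the family
  obtain ⟨κ, V, g, hg, hgR, i, hi⟩ : ∃ (κ : Type u) (V : κ → Over S) (g : ∀ k, V k ⟶ T) (_ : Fam g)
      (hgR : ∀ k, R (g k)) (i : κ → ι), ∀ k, x (g k) (hgR k) ∈ Set.range ((m (i k)).app (op (V k))) := by
    have h2 := fun k => exists_zar m hb hc (x (g₀ k) (hk₀ k))
    choose κ' V' g' hg' i hi using h2
    refine ⟨Σ k, κ' k, fun k => V' k.1 k.2, fun k => g' k.1 k.2 ≫ g₀ k.1, ⟨fun k => ?_, fun k => ?_, fun t => ?_⟩,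
      fun k => R.downward_closed (hk₀ k.1) _, fun k => i k.1 k.2, fun k => ?_⟩
    · have := (hg' k.1).opn k.2
      have := hg₀.flat k.1
      exact inferInstanceAs (Flat ((g' k.1 k.2).left ≫ (g₀ k.1).left))
    · have := (hg' k.1).opn k.2
      have := hg₀.lfp k.1
      exact inferInstanceAs (LocallyOfFinitePresentation ((g' k.1 k.2).left ≫ (g₀ k.1).left))
    · obtain ⟨k, v, hv⟩ := hg₀.surj t
      obtain ⟨l, w, hw⟩ := (hg' k).surj v
      refine ⟨⟨k, l⟩, w, ?_⟩
      rw [← hv, ← hw]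
      rfl
    · have e : x (g' k.1 k.2 ≫ g₀ k.1) (R.downward_closed (hk₀ k.1) _) =
          F.map (g' k.1 k.2).op (x (g₀ k.1) (hk₀ k.1)) := by
        have := hx (𝟙 _) (g' k.1 k.2) (R.downward_closed (hk₀ k.1) (g' k.1 k.2)) (hk₀ k.1) (Category.id_comp _)
        rw [map_id'] at this
        exact this
      rw [e]
      exact hi k.1 k.2
  -- the images
  have h2 : ∀ k, ∃ (W : Over S) (j : W ⟶ T) (g' : V k ⟶ W), g' ≫ j = g k ∧ IsOpenImmersion j.left ∧ Cov g' :=
    fun k => by
      have := hg.flat k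
      have := hg.lfp k
      exact exists_image (g k)
  choose W j g' hj1 hj2 hj3 using h2
  choose x' hx' using hi
  have h3 : ∀ k, ∃ y : F.obj (op (W k)), F.map (g' k).op y = x (g k) (hgR k) := by
    intro k
    obtain ⟨y', hy'⟩ := (hj3 k).glue (⟨_, ha (i k)⟩ : Sp S) (x' k) (fun Z a b hab => by
      apply injective_app (m (i k))
      change (m (i k)).app _ ((Fi (i k)).map _ (x' k)) = (m (i k)).app _ ((Fi (i k)).map _ (x' k))
      rw [NatTrans.naturality_apply, NatTrans.naturality_apply, hx']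
      refine hx a b (hgR k) (hgR k) ?_
      rw [← hj1, reassoc_of% hab])
    refine ⟨(m (i k)).app _ y', ?_⟩
    rw [← NatTrans.naturality_apply, ← hx']
    exact congrArg _ hy'
  choose y hy using h3
  have hjZ : Zar j := ⟨hj2, fun t => by
    obtain ⟨k, v, hv⟩ := hg.surj t
    refine ⟨k, (g' k).left v, ?_⟩
    rw [← Scheme.Hom.comp_apply, ← Over.comp_left, hj1, hv]⟩
  obtain ⟨t, ht, -⟩ := hjZ.glue h1 y (fun k l Z a b hab => by
    have c1 := (hj3 k).exists_baseChange a
    obtain ⟨Z1, c1, u1, sq1, hc1⟩ := c1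
    obtain ⟨Z2, c2, u2, sq2, hc2⟩ := (hj3 l).exists_baseChange (c1 ≫ b)
    refine fam_ext m ha hb h1 hc (hc1.comp hc2).fam fun _ => ?_
    have e1 : (c2 ≫ c1) ≫ a = (c2 ≫ u1) ≫ g' k := by rw [Category.assoc, Category.assoc, sq1.w]
    have e2 : (c2 ≫ c1) ≫ b = u2 ≫ g' l := by rw [Category.assoc, sq2.w]
    have e3 : F.map (c2 ≫ c1).op (F.map a.op (y k)) = F.map (c2 ≫ u1).op (x (g k) (hgR k)) := by
      rw [← map_comp', e1, map_comp' (g' k) (c2 ≫ u1), hy]
    have e4 : F.map (c2 ≫ c1).op (F.map b.op (y l)) = F.map u2.op (x (g l) (hgR l)) := by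
      rw [← map_comp', e2, map_comp' (g' l) u2, hy]
    refine e3.trans (Eq.trans ?_ e4.symm)
    refine hx (c2 ≫ u1) u2 (hgR k) (hgR l) ?_
    rw [← hj1 k, ← hj1 l, ← Category.assoc, ← Category.assoc, ← e1, ← e2, Category.assoc _ a, Category.assoc _ b, hab])
  have ht' : ∀ k, F.map (g k).op t = x (g k) (hgR k) := fun k => by
    have e : F.map (g k).op t = F.map (g' k).op (F.map (j k).op t) := by rw [← map_comp', hj1]
    rw [e, ht, hy]
  refine ⟨t, fun Z f hf => ?_, fun t' ht'' => fam_ext m ha hb h1 hc hg fun k => by rw [ht', ht'' (g k) (hgR k)]⟩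
  refine fam_ext m ha hb h1 hc (fam_baseChange hg f) fun k => ?_
  rw [← map_comp', ← pullback.condition, map_comp', ht']
  exact hx _ _ _ _ pullback.condition

end

end K597.ZarFppf
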